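import Mathlib
import Cfsg.Prelude.Def_Transfer

set_option autoImplicit false

namespace Cfsg.Agent.Lib.Helper58

/-- If `K ⊴ M` has order prime to `p` and `p`-power index in `M`, every element of `M` of order prime to `p`
lies in `K`. -/
theorem mem_of_coprime_order {M : Type*} [Group M] [Finite M] {p : ℕ} [Fact p.Prime]
    (K : Subgroup M) [K.Normal] (j : ℕ) (hK : K.index = p ^ j) (x : M) (hx : (orderOf x).Coprime p) :
    x ∈ K := by
  rw [← QuotientGroup.eq_one_iff, ← orderOf_eq_one_iff]
  have h1 : orderOf (x : M ⧸ K) ∣ orderOf x := orderOf_map_dvd (QuotientGroup.mk' K) x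
  have h2 : orderOf (x : M ⧸ K) ∣ p ^ j := by
    rw [← hK, Subgroup.index_eq_card]
    exact orderOf_dvd_natCard _
  exact Nat.eq_one_of_dvd_coprimes (hx.pow_right j) h1 h2

/-- A normal subgroup `K` of `G` of order prime to `p` and `p`-power index is a normal `p`-complement. -/
theorem hasNormalPComplement_of_card {G : Type*} [Group G] [Finite G] {p : ℕ} [Fact p.Prime]
    (K : Subgroup G) [hKn : K.Normal] (j : ℕ) (hK : K.index = p ^ j) (hc : (Nat.card K).Coprime p) :
    Cfsg.HasNormalPComplement p G := by
  obtain ⟨S⟩ : Nonempty (Sylow p G) := inferInstance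
  refine ⟨S, K, hKn, ?_⟩
  obtain ⟨e, he⟩ := S.2.exists_card_eq
  have h1 : Nat.card K * p ^ j = Nat.card G := by rw [← hK]; exact K.card_mul_index
  have h2 : Nat.card (S : Subgroup G) * (S : Subgroup G).index = Nat.card G :=
    (S : Subgroup G).card_mul_index
  have h3 : (Nat.card (S : Subgroup G)).Coprime (S : Subgroup G).index := S.card_coprime_index
  have h4 : p ^ e ∣ p ^ j := by
    have : p ^ e ∣ Nat.card K * p ^ j := by rw [h1, ← h2, he]; exact dvd_mul_right _ _
    exact (Nat.Coprime.pow_left e hc.symm).dvd_of_dvd_mul_left this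
  have h5 : p ^ j ∣ p ^ e := by
    have : p ^ j ∣ p ^ e * (S : Subgroup G).index := by rw [← he, h2, ← h1]; exact dvd_mul_left _ _
    rcases Nat.eq_zero_or_pos j with rfl | hj
    · simp
    · have hpe : e ≠ 0 := by
        rintro rfl
        have hp := (Fact.out : p.Prime)
        have h6 : p ∣ Nat.card G := by rw [← h1]; exact Dvd.dvd.mul_left (dvd_pow_self p hj.ne') _
        have h7 := S.not_dvd_index
        apply h7
        rw [he, pow_zero, one_mul] at h2
        rwa [h2]
      have hcop : (p ^ j).Coprime (S : Subgroup G).index := by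
        apply Nat.Coprime.pow_left
        rw [he] at h3
        exact (Nat.coprime_pow_left_iff (Nat.pos_of_ne_zero hpe) _ _).mp h3
      exact hcop.dvd_of_dvd_mul_right this
  have h6 : p ^ e = p ^ j := Nat.dvd_antisymm h4 h5
  apply Subgroup.isComplement'_of_coprime
  · rw [he, h6, h1]
  · rw [he]; exact hc.pow_right e

/-- If `M ⊴ G` has `p`-power index and `M` has a normal `p`-complement, so has `G`. -/
theorem hasNormalPComplement_of_normal_index_pow {G : Type*} [Group G] [Finite G] {p : ℕ} [Fact p.Prime]
    (M : Subgroup G) [hM : M.Normal] (k : ℕ) (hk : M.index = p ^ k)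
    (h : Cfsg.HasNormalPComplement p M) : Cfsg.HasNormalPComplement p G := by
  obtain ⟨P, K, hKn, hKP⟩ := h
  obtain ⟨j, hj⟩ := P.2.exists_card_eq
  have hcard : Nat.card K * p ^ j = Nat.card M := by rw [← hj]; exact hKP.card_mul_card
  have hKidx : K.index = p ^ j := by
    have h1 := K.card_mul_index
    rw [← hcard] at h1
    exact Nat.eq_of_mul_eq_mul_left Nat.card_pos h1
  have hKcop : (Nat.card K).Coprime p := by
    have h1 : (Nat.card (P : Subgroup M)).Coprime (P : Subgroup M).index := P.card_coprime_index
    have h2 : (P : Subgroup M).index = Nat.card K := by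
      have h3 := (P : Subgroup M).card_mul_index
      rw [← hcard, hj, mul_comm] at h3
      exact Nat.eq_of_mul_eq_mul_right (pow_pos (Fact.out : p.Prime).pos j) h3
    have hp := (Fact.out : p.Prime)
    rw [Nat.coprime_comm, hp.coprime_iff_not_dvd, ← h2]
    exact P.not_dvd_index
  have hnorm : (K.map M.subtype).Normal := by
    constructor
    rintro _ ⟨x, hx, rfl⟩ g
    have hmem : g * (x : G) * g⁻¹ ∈ M := hM.conj_mem _ x.2 g
    refine ⟨⟨_, hmem⟩, ?_, rfl⟩
    apply mem_of_coprime_order K j hKidx
    have h1 : orderOf (⟨g * (x : G) * g⁻¹, hmem⟩ : M) = orderOf x := by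
      rw [← Subgroup.orderOf_coe, ← Subgroup.orderOf_coe]
      exact orderOf_injective (MulAut.conj g).toMonoidHom (MulAut.conj g).injective (x : G)
    rw [h1]
    have h2 : orderOf x ∣ Nat.card K := by
      have := orderOf_dvd_natCard (⟨x, hx⟩ : K)
      rwa [← Subgroup.orderOf_coe] at this
    exact Nat.Coprime.coprime_dvd_left h2 hKcop
  have hcardmap : Nat.card (K.map M.subtype) = Nat.card K :=
    Subgroup.card_map_of_injective M.subtype_injective
  apply hasNormalPComplement_of_card (K.map M.subtype) (j + k)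
  · have h1 := (K.map M.subtype).card_mul_index
    have h2 := M.card_mul_index
    rw [hcardmap, ← h2, ← hcard, hk, mul_assoc, ← pow_add] at h1
    exact Nat.eq_of_mul_eq_mul_left Nat.card_pos h1
  · rw [hcardmap]; exact hKcop

end Cfsg.Agent.Lib.Helper58
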