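import Cfsg.Agent.Lib.Helper58.BG13b
import Cfsg.Agent.Lib.Helper2.BG139Core
import Cfsg.Agent.S1415
import Cfsg.Agent.S1416

/-!
`Core1428 G` (in the form of helper2's ladder BG139) from the texts of S1417, S1418.
-/

set_option autoImplicit false

namespace Cfsg.Agent.Lib.Helper58.BG13

open Subgroup Cfsg.Agent.Lib.Helper28 Cfsg.Agent.Lib.Helper30
open Cfsg.Agent.Lib.Helper28.BG12 (T1415 T1416 T1417 T1418 T1419)

universe u

variable {G : Type u} [Group G]

theorem fb_of [Finite G] (T : Cfsg.Agent.Lib.Helper2.BG139.Texts0 G) : FB G :=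
  fun _ hL _ _ hq hqβ hS => Cfsg.Agent.Lib.Helper2.BG139.factor_of_not_beta T hL hq hqβ hS

theorem core1428_of [Finite G] (T : Cfsg.Agent.Lib.Helper2.BG139.Texts0 G) (h17 : T1417 G)
    (h18 : T1418 G) : Cfsg.Agent.Lib.Helper2.BG139.Core1428 G := by
  intro M hM p r q hpM hr hrp hrM hqM P R Y H hPM hPc hRM hRP hRc hY hY1 hYM hYP hRY hYR hH hNP hqH
  exact core1428 T.hG (fun M hM E hE => Cfsg.Agent.S1415.result T.hG M hM E hE)
    (fun M hM p _ A h1 h2 h3 => (Cfsg.Agent.S1416.result T.hG M hM p A ⟨h1, h2, h3⟩).1)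
    h17 h18 (fb_of T) M hM p r q hpM hr hrp hrM hqM P R Y H hPM hPc hRM hRP hRc hY hY1 hYM hYP hRY
    hYR hH hNP hqH

end Cfsg.Agent.Lib.Helper58.BG13
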