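import Cfsg.Agent.Lib.Helper58.BG9e
import Cfsg.Agent.Lib.Helper68.BG10C
import Cfsg.Agent.S1404
import Cfsg.Agent.Lib.Helper70.Wielandt

/-!
Bender-Glauberman section 12: 12.10(d) and 12.15(a,b,c), from 10.1 (S1404) and the first part of
12.4 (text of S1416, as a hypothesis).
-/

set_option autoImplicit false
set_option linter.style.haveILetI false

namespace Cfsg.Agent.Lib.Helper58.BG12

open Subgroup Cfsg.Agent.Lib.Helper28 Cfsg.Agent.Lib.Helper30 Cfsg.Agent.Lib.Helper58.BG9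

universe u

variable {G : Type u} [Group G]

/-- first part of B-G 12.4 (text of S1416). -/
def C16 (G : Type u) [Group G] : Prop :=
  ∀ (M : Subgroup G), IsCoatom M → ∀ (p : ℕ) [Fact p.Prime] (A : Subgroup G), A ≤ M →
    Cfsg.IsElementaryAbelian p A → Nat.card A = p ^ 2 → centralizer (A : Set G) ≤ M

/-- B-G 12.10(d). -/
theorem normalizer_le_of_noncyclic [Finite G] (hG : Cfsg.IsMinSimpleOddOrder G) (h16 : C16 G)
    {M : Subgroup G} (hM : IsCoatom M) {p : ℕ} [Fact p.Prime] (hp : p ∈ Cfsg.sigma M)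
    {P : Subgroup G} (hP : IsPGroup p P) (hPM : P ≤ M) (hnc : ¬ IsCyclic P) :
    normalizer (P : Set G) ≤ M := by
  have hP1 : P ≠ ⊥ := by
    rintro rfl
    exact hnc inferInstance
  have hp2 : p ≠ 2 := ne_two_of_isPGroup hG hP hP1
  obtain ⟨D, hDP, -, hD, hDc⟩ := exists_normal_sq hp2 hP hnc
  have h1 := (Cfsg.Agent.S1404.result hG M hM p hp P hP hP1 hPM).2
  rw [h1]
  exact sup_le inf_le_left ((centralizer_le hDP).trans (h16 M hM p D (hDP.trans hPM) hD hDc))

/-- a subgroup of a cyclic group is normalized by the normalizer of the cyclic group. -/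
theorem normalizer_le_normalizer_of_isCyclic [Finite G] {X S : Subgroup G} (hS : IsCyclic S)
    (hXS : X ≤ S) : normalizer (S : Set G) ≤ normalizer (X : Set G) := by
  intro g hg
  apply mem_normalizer_of_cj_eq
  have h1 : cj g X ≤ S := by
    calc cj g X ≤ cj g S := cj_mono g hXS
      _ = S := cj_eq_of_mem_normalizer hg
  have h2 : Nat.card (cj g X) = Nat.card X := card_cj g X
  have h3 : (cj g X).subgroupOf S = X.subgroupOf S := by
    apply Cfsg.Agent.Lib.Helper70.eq_of_card_eq_of_isCyclic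
    rw [Nat.card_congr (subgroupOfEquivOfLe h1).toEquiv, Nat.card_congr (subgroupOfEquivOfLe hXS).toEquiv, h2]
  have h4 := congrArg (Subgroup.map S.subtype) h3
  rwa [map_subgroupOf_eq_of_le h1, map_subgroupOf_eq_of_le hXS] at h4

/-- B-G 12.15 (a), (b), (c). -/
theorem bg1215 [Finite G] (hG : Cfsg.IsMinSimpleOddOrder G) (h16 : C16 G)
    {M : Subgroup G} (hM : IsCoatom M) {q : ℕ} [Fact q.Prime] (hq : q ∈ Cfsg.sigma M)
    {X : Subgroup G} (hXq : IsPGroup q X) (hX1 : X ≠ ⊥) (hXM : X ≤ M)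
    {Ms : Subgroup G} (hMs : IsCoatom Ms) (hne : Ms ≠ M) (hNX : normalizer (X : Set G) ≤ Ms)
    {S : Subgroup G} (hS : IsSylowIn q S (M ⊓ Ms)) (hXS : X ≤ S) :
    (∀ g : G, Ms ≠ cj g M) ∧ normalizer (S : Set G) ≤ M ∧ ¬ q ∣ S.relIndex Ms := by
  have hSM : S ≤ M := hS.le.trans inf_le_left
  have hSMs : S ≤ Ms := hS.le.trans inf_le_right
  -- a q-subgroup of `M ⊓ Ms` containing `S` is `S`
  have hmax : ∀ T : Subgroup G, IsPGroup q T → S ≤ T → (∀ t ∈ T, t ∈ normalizer (S : Set G) → t ∈ M ⊓ Ms) →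
      T = S := by
    intro T hT hST hN
    by_contra hTS
    have hlt : S < T := lt_of_le_of_ne hST (Ne.symm hTS)
    obtain ⟨t, htT, htN, htS⟩ := exists_mem_normalizer_not_mem hT hlt
    have h1 : IsPGroup q (S ⊔ zpowers t : Subgroup G) :=
      hT.to_le (sup_le hST (by rw [zpowers_le]; exact htT))
    have h2 : S ⊔ zpowers t ≤ M ⊓ Ms := sup_le hS.le (by rw [zpowers_le]; exact hN t htT htN)
    have h3 := hS.eq_of_le h2 h1 le_sup_left
    exact htS (h3 ▸ (le_sup_right : zpowers t ≤ S ⊔ zpowers t) (mem_zpowers t))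
  have hb : normalizer (S : Set G) ≤ M := by
    by_cases hc : IsCyclic S
    · have h1 : normalizer (S : Set G) ≤ Ms := (normalizer_le_normalizer_of_isCyclic hc hXS).trans hNX
      obtain ⟨P, hP, hSP⟩ := exists_isSylowIn_ge hSM hS.isPGroup
      have h2 : P = S := hmax P hP.isPGroup hSP (fun t ht htN => ⟨hP.le ht, h1 htN⟩)
      exact Cfsg.Agent.Lib.Helper68.normalizer_le_of_mem_sigma hq (h2 ▸ hP)
    · exact normalizer_le_of_noncyclic hG h16 hM hq hS.isPGroup hSM hc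
  refine ⟨?_, hb, ?_⟩
  · intro g hg
    have h1 : cj g⁻¹ X ≤ M := by
      rw [cj_le_iff, inv_inv, ← hg]
      exact le_normalizer.trans hNX
    obtain ⟨m, hm, c, hc, hgmc⟩ := (Cfsg.Agent.S1404.result hG M hM q hq X hXq hX1 hXM).1 g⁻¹ h1
    have hcMs : c ∈ Ms := hNX (centralizer_le_normalizer _ hc)
    have hg2 : g = c⁻¹ * m⁻¹ := by
      rw [← inv_inv g, hgmc]; group
    apply hne
    have h3 : Ms = cj c⁻¹ M := by
      rw [hg, hg2, cj_mul, cj_eq_of_mem (M.inv_mem hm)]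
    have h4 : cj c Ms = M := by rw [h3, cj_cj_inv]
    rw [← h4, cj_eq_of_mem hcMs]
  · obtain ⟨T, hT, hST⟩ := exists_isSylowIn_ge hSMs hS.isPGroup
    have h2 : T = S := hmax T hT.isPGroup hST (fun t ht htN => ⟨hb htN, hT.le ht⟩)
    exact (h2 ▸ hT).not_dvd

end Cfsg.Agent.Lib.Helper58.BG12
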