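import Cfsg.Agent.Lib.Helper28.BG12b
import Cfsg.Agent.Lib.Helper58.BG12a
import Cfsg.Agent.S0120
import Cfsg.Agent.S1409
import Cfsg.Agent.S1414

/-!
Bender-Glauberman section 13: prime action of cyclic Sylow subgroups of a complement of `M_σ`
(Theorem 13.3 = S1427), from the texts of S1416-S1419.
-/

set_option autoImplicit false
set_option linter.style.haveILetI false

namespace Cfsg.Agent.Lib.Helper58.BG13

open Subgroup Cfsg.Agent.Lib.Helper28 Cfsg.Agent.Lib.Helper30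
open Cfsg.Agent.Lib.Helper28.BG12 (T1416 T1417 T1418 T1419)
open scoped commutatorElement

universe u

variable {G : Type u} [Group G]

theorem ne_bot_of_isSylowIn_of_dvd {p : ℕ} {P H : Subgroup G} (hP : IsSylowIn p P H)
    (hd : p ∣ Nat.card H) : P ≠ ⊥ := by
  rintro rfl
  exact hP.not_dvd (by rwa [relIndex_bot_left])

theorem cj_ne_bot {X : Subgroup G} (hX : X ≠ ⊥) (g : G) : cj g X ≠ ⊥ := by
  intro h
  apply hX
  have := congrArg (cj g⁻¹) h
  rw [cj_inv_cj] at this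
  rw [this]
  exact (Subgroup.map_bot _)

theorem sigma_cj [Finite G] {H : Subgroup G} {p : ℕ} [Fact p.Prime] (hp : p ∈ Cfsg.sigma H) (g : G) :
    p ∈ Cfsg.sigma (cj g H) := by
  obtain ⟨P, hP, hN⟩ := Cfsg.Agent.Lib.Helper2.exists_sylow_of_mem_sigma hp
  have hP1 : P ≠ ⊥ := ne_bot_of_isSylowIn_of_dvd hP hp.2.1
  exact Cfsg.Agent.Lib.Helper68.mem_sigma_of_normalizer_le (hP.cj g) (cj_ne_bot hP1 g)
    (by rw [normalizer_cj]; exact cj_mono g hN)

/-- `q ∈ σ(M)`: `M` contains a Sylow `q`-subgroup of `G`. -/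
theorem exists_sylow_top_of_mem_sigma [Finite G] {M : Subgroup G} {q : ℕ} [Fact q.Prime]
    (hq : q ∈ Cfsg.sigma M) : ∃ Q, IsSylowIn q Q ⊤ ∧ Q ≤ M ∧ normalizer (Q : Set G) ≤ M := by
  obtain ⟨P, hP, hN⟩ := Cfsg.Agent.Lib.Helper2.exists_sylow_of_mem_sigma hq
  exact ⟨P, isSylowIn_top_of_normalizer_le hP hN, hP.le, hN⟩

/-- `α(H) ∩ σ(M) ≠ ∅` forces `M` and `H` to be conjugate. -/
theorem conj_of_alpha_sigma [Finite G] (hG : Cfsg.IsMinSimpleOddOrder G) {H M : Subgroup G}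
    (hH : IsCoatom H) (hM : IsCoatom M) {q : ℕ} [hq : Fact q.Prime] (hqH : q ∈ Cfsg.alpha H)
    (hqM : q ∈ Cfsg.sigma M) : ∃ g : G, H = cj g M := by
  obtain ⟨E, hEH, hE, hc⟩ := exists_elementary_of_not_pRankLE hqH.2
  have hEtop : E ≠ ⊤ := fun h => hH.1 (top_le_iff.mp (h ▸ hEH))
  have hc1 : q ^ 1 < Nat.card E := lt_of_le_of_lt (Nat.pow_le_pow_right hq.out.pos (by norm_num)) hc
  have hEU : Cfsg.InUniqueMaximal E := Cfsg.Agent.S1403.result hG E hEtop
    (not_rankLE_of_elementary hq.out le_rfl hE hc1)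
    (Or.inl (not_rankLE_of_elementary hq.out le_rfl hE hc))
  obtain ⟨Q, hQ, hQM, -⟩ := exists_sylow_top_of_mem_sigma hqM
  obtain ⟨g, hg⟩ := Cfsg.Agent.Lib.Helper68.exists_le_cj_of_isPGroup hQ (isPGroup_of_elementary hE)
  exact ⟨g, BG9.uniq_eq hEU hH hEH (BG9.isCoatom_cj hM g) (hg.trans (cj_mono g hQM))⟩

/-- Key lemma: `q ∉ β(L)`, `Y` a `q`-subgroup of `L'`, `P ≤ L'` a `q'`-subgroup normalizing `Y`:
then `P` centralizes `Y`. -/
theorem lemmaK [Finite G] (hG : Cfsg.IsMinSimpleOddOrder G) {L : Subgroup G} (hL : IsCoatom L)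
    {q : ℕ} [hq : Fact q.Prime] (hqβ : q ∉ Cfsg.beta L) {Y P : Subgroup G} (hY : IsPGroup q Y)
    (hY1 : Y ≠ ⊥) (hYL : Y ≤ ⁅L, L⁆) (hPL : P ≤ ⁅L, L⁆) (hPq : (Nat.card P).Coprime q)
    (hPY : P ≤ normalizer (Y : Set G)) : P ≤ centralizer (Y : Set G) := by
  have hLL : ⁅L, L⁆ ≤ L := commutator_le_self L
  have hqL : q ∣ Nat.card L :=
    (dvd_card_of_isPGroup_ne_bot hY hY1).trans (card_dvd_of_le (hYL.trans hLL))
  obtain ⟨S, N, hN, hc⟩ := ((Cfsg.Agent.S1414.result hG L hL).2.2.2.2 q hq.out hqL hqβ).1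
  have hidx : N.index = Nat.card S := hc.symm.index_eq_card
  have hNcop : (Nat.card N).Coprime q := by
    rw [← hc.index_eq_card, Nat.coprime_comm, hq.out.coprime_iff_not_dvd]
    exact S.not_dvd_index
  obtain ⟨k, hk⟩ := (IsPGroup.iff_card.mp S.isPGroup')
  have hmem : ∀ x (hx : x ∈ P), (⟨x, hPL hx⟩ : ↥⁅L, L⁆) ∈ N := by
    intro x hx
    apply Cfsg.Agent.Lib.Helper40.BG12.mem_of_normal_of_coprime
    rw [hidx, hk]
    apply Nat.Coprime.pow_right
    have h1 : orderOf (⟨x, hPL hx⟩ : ↥⁅L, L⁆) = orderOf x := by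
      rw [← Subgroup.orderOf_coe]
    rw [h1]
    have h2 : orderOf x ∣ Nat.card P := by
      have := orderOf_dvd_natCard (⟨x, hx⟩ : P)
      rwa [← Subgroup.orderOf_coe] at this
    exact Nat.Coprime.coprime_dvd_left h2 hPq
  intro x hx
  rw [mem_centralizer_iff]
  intro y hy
  have hy' : y ∈ Y := hy
  have hxy : x * y * x⁻¹ ∈ Y := ((mem_normalizer_iff.mp (hPY hx)) y).mp hy'
  have hcY : x * y * x⁻¹ * y⁻¹ ∈ Y := Y.mul_mem hxy (Y.inv_mem hy')
  have hcN : (⟨x * y * x⁻¹ * y⁻¹, hYL hcY⟩ : ↥⁅L, L⁆) ∈ N := by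
    have h1 := hmem x hx
    have h2 : (⟨y, hYL hy'⟩ : ↥⁅L, L⁆) * (⟨x, hPL hx⟩)⁻¹ * (⟨y, hYL hy'⟩ : ↥⁅L, L⁆)⁻¹ ∈ N :=
      hN.conj_mem _ (N.inv_mem h1) _
    have h3 := N.mul_mem h1 h2
    convert h3 using 1
    apply Subtype.ext
    simp [mul_assoc]
  have h1 : x * y * x⁻¹ * y⁻¹ = 1 := by
    rw [← orderOf_eq_one_iff]
    have ha : orderOf (x * y * x⁻¹ * y⁻¹) ∣ Nat.card N := by
      have := orderOf_dvd_natCard (⟨⟨x * y * x⁻¹ * y⁻¹, hYL hcY⟩, hcN⟩ : N)
      rwa [← Subgroup.orderOf_coe, ← Subgroup.orderOf_coe] at this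
    obtain ⟨m, hm⟩ := hY ⟨_, hcY⟩
    have hb : orderOf (x * y * x⁻¹ * y⁻¹) ∣ q ^ m := by
      apply orderOf_dvd_of_pow_eq_one
      simpa using congrArg Subtype.val hm
    exact Nat.eq_one_of_dvd_coprimes (Nat.Coprime.pow_right m hNcop) ha hb
  have h2 : x * y = y * x := by
    have := congrArg (· * y * x) h1
    simpa [mul_assoc] using this
  exact h2.symm

/-- coprime action: if `P` does not centralize `D`, some nontrivial `q`-subgroup `Y = [Y, P]`. -/
theorem exists_comm_pgroup [Finite G] {P D : Subgroup G} (hPD : P ≤ normalizer (D : Set G))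
    (hcop : (Nat.card P).Coprime (Nat.card D)) (hsolv : Group.IsSolvable P ∨ Group.IsSolvable D)
    (hn : ¬ D ≤ centralizer (P : Set G)) :
    ∃ (q : ℕ) (_ : Fact q.Prime) (Y : Subgroup G), q ∣ Nat.card D ∧ Y ≤ D ∧ IsPGroup q Y ∧ Y ≠ ⊥ ∧
      P ≤ normalizer (Y : Set G) ∧ ⁅Y, P⁆ = Y := by
  by_contra hcon
  apply hn
  apply Cfsg.Agent.Lib.Helper68.le_of_forall_isSylowIn
  intro q hqf hq
  obtain ⟨Y₀, hY₀, hPY₀⟩ := exists_invariant_isSylowIn hPD hcop hsolv q
  refine ⟨Y₀, hY₀, ?_⟩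
  by_contra hc
  apply hcon
  have hcop' : (Nat.card P).Coprime (Nat.card Y₀) :=
    Nat.Coprime.coprime_dvd_right (card_dvd_of_le hY₀.le) hcop
  have hsolv' : Group.IsSolvable P ∨ Group.IsSolvable Y₀ := by
    right
    have := hY₀.isPGroup.isNilpotent
    infer_instance
  refine ⟨q, hqf, ⁅Y₀, P⁆, hq, (commutator_le_of_le_normalizer hPY₀).trans hY₀.le,
    hY₀.isPGroup.to_le (commutator_le_of_le_normalizer hPY₀), ?_,
    le_normalizer_commutator hPY₀ le_normalizer, commutator_commutator_eq hPY₀ hcop' hsolv'⟩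
  intro hbot
  exact hc (commutator_eq_bot_iff_le_centralizer.mp hbot)

theorem isCyclic_cj {P : Subgroup G} (hP : IsCyclic P) (g : G) : IsCyclic (cj g P) := by
  have e : P ≃* cj g P := P.equivMapOfInjective _ (MulAut.conj g).injective
  exact isCyclic_of_surjective e e.surjective

/-- a group with cyclic Sylow `p`-subgroups has no elementary abelian subgroup of order `p ^ 2`. -/
theorem not_ea_sq_of_cyclic_sylow [Finite G] {p : ℕ} [hp : Fact p.Prime] {P M A : Subgroup G}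
    (hP : IsSylowIn p P M) (hPc : IsCyclic P) (hAM : A ≤ M) (hA : Cfsg.IsElementaryAbelian p A)
    (hc : Nat.card A = p ^ 2) : False := by
  obtain ⟨S, hS, hAS⟩ := exists_isSylowIn_ge hAM (isPGroup_of_elementary hA)
  obtain ⟨k, -, rfl⟩ := hP.conj hS
  have hSc : IsCyclic (cj k P) := isCyclic_cj hPc k
  have hAc : IsCyclic (A.subgroupOf (cj k P)) := inferInstance
  have hAc' : IsCyclic A := isCyclic_of_surjective (subgroupOfEquivOfLe hAS)
    (subgroupOfEquivOfLe hAS).surjective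
  obtain ⟨g, hg⟩ := hAc'.exists_generator
  have h1 : orderOf g = Nat.card A := orderOf_eq_card_of_forall_mem_zpowers hg
  have h2 : g ^ p = 1 := Subtype.ext (by simpa using hA.2 g g.2)
  have h3 : p ^ 2 ∣ p := by
    rw [← hc, ← h1]
    exact orderOf_dvd_of_pow_eq_one h2
  have h4 := Nat.le_of_dvd hp.out.pos h3
  have h5 := hp.out.one_lt
  nlinarith

/-- `M` with cyclic Sylow `p`-subgroups, `p ∉ σ(M)`, is not conjugate to `H` with
`p ∈ σ(H) ∪ τ₂(H)`. -/
theorem not_conj_of_cyclic [Finite G] {p : ℕ} [hp : Fact p.Prime] {P M H : Subgroup G}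
    (hP : IsSylowIn p P M) (hPc : IsCyclic P) (hpM : p ∉ Cfsg.sigma M)
    (hpH : p ∈ Cfsg.sigma H ∨ p ∈ Cfsg.tau2 H) (g : G) : H ≠ cj g M := by
  rintro rfl
  rcases hpH with h | h
  · apply hpM
    have := sigma_cj h g⁻¹
    rwa [cj_inv_cj] at this
  · obtain ⟨A, hA, hAe, hc⟩ := BG12.exists_ea_sq_of_tau2 h
    have h1 : cj g⁻¹ A ≤ M := by
      have := cj_mono g⁻¹ hA
      rwa [cj_inv_cj] at this
    exact not_ea_sq_of_cyclic_sylow hP hPc h1 (Cfsg.Agent.Lib.Helper2.ea_cj hAe g⁻¹)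
      (by rw [card_cj, hc])

/-- `q ∈ σ(H) ∩ σ(M)` with `H_σ` nilpotent forces conjugacy. -/
theorem conj_of_sigma_nilpotent [Finite G] (hG : Cfsg.IsMinSimpleOddOrder G) {H M : Subgroup G}
    (hH : IsCoatom H) (hM : IsCoatom M) {q : ℕ} [hq : Fact q.Prime] (hqH : q ∈ Cfsg.sigma H)
    (hqM : q ∈ Cfsg.sigma M) (hnil : Group.IsNilpotent (Cfsg.sigmaCore H)) :
    ∃ g : G, H = cj g M := by
  obtain ⟨Q, hQ, hNQ⟩ := Cfsg.Agent.Lib.Helper2.exists_sylow_of_mem_sigma hqH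
  have hQ1 : Q ≠ ⊥ := ne_bot_of_isSylowIn_of_dvd hQ hqH.2.1
  have hQσ : Q ≤ Cfsg.sigmaCore H := BG12.isPGroup_le_sigmaCore hG hH hqH hQ.le hQ.isPGroup
  have hσF : Cfsg.sigmaCore H ≤ fitIn H :=
    le_fitIn (BG12.sigmaCore_le H) (BG12.le_normalizer_sigmaCore H) hnil
  have hQO : Q ≤ opIn q H := isPGroup_le_opIn (hQσ.trans hσF) hQ.isPGroup
  have hO : opIn q H = Q := hQ.eq_of_le (opIn_le q H) (opIn_isPGroup q H) hQO
  have hHN : H ≤ normalizer (Q : Set G) := hO ▸ le_normalizer_opIn q H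
  have hNe : normalizer (Q : Set G) = H := le_antisymm hNQ hHN
  have hQt : IsSylowIn q Q ⊤ := isSylowIn_top_of_normalizer_le hQ hNQ
  obtain ⟨Q', hQ't, hQ'M, hNQ'⟩ := exists_sylow_top_of_mem_sigma hqM
  obtain ⟨g, -, rfl⟩ := hQ't.conj hQt
  refine ⟨g, ?_⟩
  rw [normalizer_cj] at hNe
  have h1 : H ≤ cj g M := hNe ▸ cj_mono g hNQ'
  exact ((hH.le_iff.mp h1).resolve_left (BG9.isCoatom_cj hM g).1).symm

theorem prime_dvd_card_sup [Finite G] {p q : ℕ} [Fact p.Prime] [Fact q.Prime] {P Y : Subgroup G}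
    (hP : IsPGroup p P) (hY : IsPGroup q Y) (hPY : P ≤ normalizer (Y : Set G)) {r : ℕ}
    (hr : r.Prime) (hd : r ∣ Nat.card (P ⊔ Y : Subgroup G)) : r = p ∨ r = q := by
  have h1 := Cfsg.Agent.Lib.Helper12.card_sup_mul_card_inf' P Y hPY
  have h2 : r ∣ Nat.card P * Nat.card Y := h1 ▸ Dvd.dvd.mul_right hd _
  rcases (Nat.Prime.dvd_mul hr).mp h2 with h | h
  · exact Or.inl (BG12.prime_dvd_card_isPGroup hP hr h)
  · exact Or.inr (BG12.prime_dvd_card_isPGroup hY hr h)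

/-- relative form of S0120. -/
theorem le_centralizer_of_omega [Finite G] {q : ℕ} [Fact q.Prime] (hq2 : q ≠ 2) {Y P : Subgroup G}
    (hY : IsPGroup q Y) (hPY : P ≤ normalizer (Y : Set G)) (hcop : (Nat.card P).Coprime q)
    (h : ∀ y ∈ Y, y ^ q = 1 → ∀ x ∈ P, x * y = y * x) : P ≤ centralizer (Y : Set G) := by
  intro x hx
  set N := normalizer (Y : Set G) with hN
  have hYN : Y ≤ N := le_normalizer
  haveI : (Y.subgroupOf N).Normal := Subgroup.normal_in_normalizer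
  have hY' : IsPGroup q (Y.subgroupOf N) := hY.of_equiv (subgroupOfEquivOfLe hYN).symm
  set x' : N := ⟨x, hPY hx⟩ with hx'
  have hox : (orderOf x').Coprime q := by
    have h1 : orderOf x' = orderOf x := by rw [← Subgroup.orderOf_coe]
    have h2 : orderOf x ∣ Nat.card P := by
      have := orderOf_dvd_natCard (⟨x, hx⟩ : P)
      rwa [← Subgroup.orderOf_coe] at this
    rw [h1]
    exact Nat.Coprime.coprime_dvd_left h2 hcop
  have ha : Nat.Coprime (orderOf (MulAut.conjNormal x' : MulAut (Y.subgroupOf N))) q :=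
    Nat.Coprime.of_dvd_left (orderOf_map_dvd (MulAut.conjNormal (H := Y.subgroupOf N)) x') hox
  have h1 := Cfsg.Agent.S0120.result hq2 hY' (MulAut.conjNormal x' : MulAut (Y.subgroupOf N)) ha (by
    intro y hy
    apply Subtype.ext
    apply Subtype.ext
    rw [MulAut.conjNormal_apply]
    have h2 : ((y : N) : G) ^ q = 1 := by
      have := congrArg (fun z : (Y.subgroupOf N) => ((z : N) : G)) hy
      simpa using this
    have h3 : ((y : N) : G) ∈ Y := mem_subgroupOf.mp y.2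
    have h4 := h _ h3 h2 x hx
    change x * ((y : N) : G) * x⁻¹ = ((y : N) : G)
    rw [h4]
    group)
  rw [mem_centralizer_iff]
  intro y hy
  have hy' : (⟨y, hYN hy⟩ : N) ∈ Y.subgroupOf N := mem_subgroupOf.mpr hy
  have h2 := congrArg (fun a : MulAut (Y.subgroupOf N) => (((a ⟨_, hy'⟩ : Y.subgroupOf N) : N) : G)) h1
  simp only [MulAut.conjNormal_apply, MulAut.one_apply] at h2
  have h3 : x * y * x⁻¹ = y := h2
  calc y * x = (x * y * x⁻¹) * x := by rw [h3]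
    _ = x * y := by group

/-- `Y, P ≤ N(A)`, `P ≤ C(A)`: `[Y, P] ≤ C(A)`. -/
theorem commutator_le_centralizer {A Y P : Subgroup G} (hY : Y ≤ normalizer (A : Set G))
    (hP : P ≤ centralizer (A : Set G)) : ⁅Y, P⁆ ≤ centralizer (A : Set G) := by
  rw [commutator_le]
  intro y hy x hx
  have h1 : y * x * y⁻¹ ∈ centralizer (A : Set G) := by
    have := cj_mono y hP (conj_mem_cj (g := y) hx)
    rw [← centralizer_cj, cj_eq_of_mem_normalizer (hY hy)] at this
    exact this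
  rw [commutatorElement_def]
  exact mul_mem h1 (inv_mem (hP hx))

theorem mem_tau2_of_ea [Finite G] (hG : Cfsg.IsMinSimpleOddOrder G) {L : Subgroup G}
    (hL : IsCoatom L) {p : ℕ} [hp : Fact p.Prime] (hps : p ∉ Cfsg.sigma L) {A : Subgroup G}
    (hAL : A ≤ L) (hA : Cfsg.IsElementaryAbelian p A) (hc : Nat.card A = p ^ 2) :
    p ∈ Cfsg.tau2 L :=
  ⟨hp.out, hps, BG12.pRankLE_two_of_not_mem_sigma hG hL hp.out hps,
    BG9.not_pRankLE_of_le hAL hA (by rw [hc]; exact Nat.pow_lt_pow_right hp.out.one_lt (by norm_num))⟩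

theorem coprime_card_of_isPGroup [Finite G] {p q : ℕ} [hp : Fact p.Prime] [hq : Fact q.Prime]
    (hpq : p ≠ q) {P : Subgroup G} (hP : IsPGroup p P) : (Nat.card P).Coprime q := by
  obtain ⟨n, hn⟩ := IsPGroup.iff_card.mp hP
  rw [hn]
  exact Nat.Coprime.pow_left n ((Nat.coprime_primes hp.out hq.out).mpr hpq)

/-- the second half of the proof of Theorem 13.3: a maximal subgroup containing `N(Y)`. -/
theorem mstar_case [Finite G] (hG : Cfsg.IsMinSimpleOddOrder G) (h16 : BG12.C16 G) (h17 : T1417 G)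
    (h18 : T1418 G) (h19 : T1419 G) {M : Subgroup G} (hM : IsCoatom M) {p q : ℕ}
    [hp : Fact p.Prime] [hq : Fact q.Prime] (hpq : p ≠ q) (hqM : q ∈ Cfsg.sigma M)
    {Y P A : Subgroup G} (hY : IsPGroup q Y) (hY1 : Y ≠ ⊥) (hYM : Y ≤ M) (hP : IsPGroup p P)
    (hP1 : P ≠ ⊥) (hPM : P ≤ M) (hPY : P ≤ normalizer (Y : Set G))
    (hA : Cfsg.IsElementaryAbelian p A) (hAc : Nat.card A = p ^ 2)
    (hYA : Y ≤ centralizer (A : Set G)) (hAM : ¬ A ≤ M) : P ≤ centralizer (Y : Set G) := by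
  have hcop : (Nat.card P).Coprime q := coprime_card_of_isPGroup hpq hP
  have hYtop : Y ≠ ⊤ := fun h => hM.1 (top_le_iff.mp (h ▸ hYM))
  obtain ⟨Ms, hMs, hNY⟩ := BG9.exists_coatom_ge (normalizer_ne_top hG hY1 hYtop)
  have hAMs : A ≤ Ms :=
    ((le_centralizer_iff.mp hYA).trans (centralizer_le_normalizer _)).trans hNY
  have hPMs : P ≤ Ms := hPY.trans hNY
  have hYMs : Y ≤ Ms := le_normalizer.trans hNY
  have hne : Ms ≠ M := fun h => hAM (h ▸ hAMs)
  obtain ⟨S, hS, hYS⟩ := exists_isSylowIn_ge (le_inf hYM hYMs) hY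
  obtain ⟨hnc, hNS, hSd⟩ := BG12.bg1215 hG h16 hM hqM hY hY1 hYM hMs hne hNY hS hYS
  have hSMs : IsSylowIn q S Ms := ⟨hS.le.trans inf_le_right, hS.isPGroup, hSd⟩
  have hS1 : S ≠ ⊥ := fun h => hY1 (le_bot_iff.mp (h ▸ hYS))
  have hU := BG12.ut hG
  by_cases hqs : q ∈ Cfsg.sigma Ms
  · have hYσ : Y ≤ Cfsg.sigmaCore Ms := BG12.isPGroup_le_sigmaCore hG hMs hqs hYMs hY
    by_cases hps : p ∈ Cfsg.sigma Ms
    · have hPσ : P ≤ Cfsg.sigmaCore Ms := BG12.isPGroup_le_sigmaCore hG hMs hps hPMs hP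
      have hσ := sigmaCore_le_commutator hG hU hMs
      refine lemmaK hG hMs ?_ hY hY1 (hYσ.trans hσ) (hPσ.trans hσ) hcop hPY
      intro hβ
      obtain ⟨g, hg⟩ := conj_of_alpha_sigma hG hMs hM hβ.1 hqM
      exact hnc g hg
    · exfalso
      have hτ := mem_tau2_of_ea hG hMs hps hAMs hA hAc
      have h1 := (h17 Ms hMs p hτ A ⟨hAMs, hA, hAc⟩).2.2.2.1
      exact hY1 (le_bot_iff.mp (h1 ▸ le_inf hYσ hYA))
  · have hSnc : ¬ IsCyclic S := by
      intro hc
      exact hqs (Cfsg.Agent.Lib.Helper68.mem_sigma_of_normalizer_le hSMs hS1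
        ((BG12.normalizer_le_normalizer_of_isCyclic hc hYS).trans hNY))
    have hq2 : q ≠ 2 := BG12.ne_two_of_isPGroup hG hY hY1
    obtain ⟨B, hBS, hB, hBc⟩ := BG12.exists_ea_sq_of_not_cyclic hq2 hS.isPGroup hSnc
    have hBMs : B ≤ Ms := hBS.trans hSMs.le
    have hBM : B ≤ M := hBS.trans (hS.le.trans inf_le_left)
    have hτq := mem_tau2_of_ea hG hMs hqs hBMs hB hBc
    have h1 := (h17 Ms hMs q hτq B ⟨hBMs, hB, hBc⟩).2.2.2.2.1 M hM hne.symm hBM
    have hps : p ∉ Cfsg.sigma Ms := by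
      intro hps
      have hPσ : P ≤ Cfsg.sigmaCore Ms := BG12.isPGroup_le_sigmaCore hG hMs hps hPMs hP
      exact hP1 (le_bot_iff.mp (h1 ▸ le_inf hPσ hPM))
    have hτp := mem_tau2_of_ea hG hMs hps hAMs hA hAc
    obtain ⟨E, hE, hPYE⟩ := BG12.exists_compl_ge hG hMs (sup_le hPMs hYMs) (by
      intro r hr hrd
      rcases prime_dvd_card_sup hP hY hPY hr hrd with rfl | rfl
      · exact hps
      · exact hqs)
    obtain ⟨Bs, hBs⟩ := BG12.exists_ea_sq_in_compl hG hMs hE hτq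
    have hPB : P ≤ centralizer (Bs : Set G) :=
      BG12.tau2_centralizes hG h17 h18 h19 hMs hE hτq hτp hpq.symm hBs (le_sup_left.trans hPYE) hP
    have h2 := (h18 Ms hMs E hE q hτq Bs hBs).1.2
    apply le_centralizer_of_omega hq2 hY hPY hcop
    intro y hy hyq x hx
    by_cases hy1 : y = 1
    · rw [hy1]; simp
    have hyo : orderOf y = q := orderOf_eq_prime hyq hy1
    have hyB : y ∈ Bs := by
      apply h2 (zpowers y) _ (by rw [Nat.card_zpowers, hyo]) (mem_zpowers y)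
      rw [zpowers_le]
      exact hPYE (le_sup_right (a := P) hy)
    exact (mem_centralizer_iff.mp (hPB hx) y hyB).symm

/-- the heart of Theorem 13.3. -/
theorem core [Finite G] (hG : Cfsg.IsMinSimpleOddOrder G) (h16 : BG12.C16 G) (h17 : T1417 G)
    (h18 : T1418 G) (h19 : T1419 G) {M : Subgroup G} (hM : IsCoatom M) {p q : ℕ}
    [hp : Fact p.Prime] [hq : Fact q.Prime] (hpM : p ∉ Cfsg.sigma M) (hqM : q ∈ Cfsg.sigma M)
    {P X₀ Y : Subgroup G} (hP : IsSylowIn p P M) (hPc : IsCyclic P) (hX₀P : X₀ ≤ P)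
    (hX₀ : Nat.card X₀ = p) (hY : IsPGroup q Y) (hY1 : Y ≠ ⊥) (hYM : Y ≤ M)
    (hYX : Y ≤ centralizer (X₀ : Set G)) (hPY : P ≤ normalizer (Y : Set G)) (hYP : ⁅Y, P⁆ = Y) :
    False := by
  have hpq : p ≠ q := fun h => hpM (h ▸ hqM)
  have hcop : (Nat.card P).Coprime q := coprime_card_of_isPGroup hpq hP.isPGroup
  have key : ¬ P ≤ centralizer (Y : Set G) := by
    intro h
    apply hY1
    rw [← hYP]
    exact commutator_eq_bot_iff_le_centralizer.mpr (le_centralizer_iff.mp h)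
  have hX1 : X₀ ≠ ⊥ := by
    rintro rfl
    rw [card_bot] at hX₀
    exact hp.out.one_lt.ne hX₀
  have hP1 : P ≠ ⊥ := fun h => hX1 (le_bot_iff.mp (h ▸ hX₀P))
  have hXtop : X₀ ≠ ⊤ := fun h => hM.1 (top_le_iff.mp (h ▸ hX₀P.trans hP.le))
  obtain ⟨H, hH, hNX⟩ := BG9.exists_coatom_ge (normalizer_ne_top hG hX1 hXtop)
  have hCX : centralizer (X₀ : Set G) ≤ H := (centralizer_le_normalizer _).trans hNX
  have hPX : P ≤ centralizer (X₀ : Set G) := by
    intro x hx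
    rw [mem_centralizer_iff]
    intro y hy
    have := BG12.comm_of_isCyclic hPc ⟨y, hX₀P hy⟩ ⟨x, hx⟩
    simpa using congrArg Subtype.val this
  have hPH : P ≤ H := hPX.trans hCX
  have hYH : Y ≤ H := hYX.trans hCX
  have hYH' : Y ≤ ⁅H, H⁆ := by
    rw [← hYP]
    exact commutator_mono hYH hPH
  have hU := BG12.ut hG
  have hpH : p ∈ Cfsg.sigma H ∨ p ∈ Cfsg.tau2 H := by
    by_cases h : p ∈ Cfsg.sigma H
    · exact Or.inl h
    · have h1 := (Cfsg.Agent.S1409.result hG H hH p h X₀ hX₀ hNX).1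
      exact Or.inr ⟨hp.out, h, h1.1, h1.2⟩
  have hnc := not_conj_of_cyclic hP hPc hpM hpH
  rcases hpH with hps | hτ
  · have hPσ : P ≤ Cfsg.sigmaCore H := BG12.isPGroup_le_sigmaCore hG hH hps hPH hP.isPGroup
    have hσ := sigmaCore_le_commutator hG hU hH
    refine key (lemmaK hG hH ?_ hY hY1 hYH' (hPσ.trans hσ) hcop hPY)
    intro hβ
    obtain ⟨g, hg⟩ := conj_of_alpha_sigma hG hH hM hβ.1 hqM
    exact hnc g hg
  · obtain ⟨A₀, hA₀⟩ := BG12.exists_ea_sq_of_tau2 hτ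
    have hnil := (h17 H hH p hτ A₀ hA₀).1
    have hqs : q ∉ Cfsg.sigma H := by
      intro hqs
      obtain ⟨g, hg⟩ := conj_of_sigma_nilpotent hG hH hM hqs hqM hnil
      exact hnc g hg
    obtain ⟨E, hE, hPYE⟩ := BG12.exists_compl_ge hG hH (sup_le hPH hYH) (by
      intro r hr hrd
      rcases prime_dvd_card_sup hP.isPGroup hY hPY hr hrd with rfl | rfl
      · exact hτ.2.1
      · exact hqs)
    obtain ⟨A, hA⟩ := BG12.exists_ea_sq_in_compl hG hH hE hτ
    have hEA := (h18 H hH E hE p hτ A hA).1.1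
    have hPE : P ≤ E := le_sup_left.trans hPYE
    have hYE : Y ≤ E := le_sup_right.trans hPYE
    have hPAp : IsPGroup p (P ⊔ A : Subgroup G) :=
      IsPGroup.to_sup_of_normal_right' hP.isPGroup (isPGroup_of_elementary hA.2.1) (hPE.trans hEA)
    have hPA : P ≤ centralizer (A : Set G) := by
      intro x hx
      rw [mem_centralizer_iff]
      intro a ha
      exact BG12.comm_of_isPGroup_sigma' hG h17 hH hτ.2.1 (sup_le hPH (hA.1.trans hE.1)) hPAp
        (le_sup_right (a := P) ha) (le_sup_left (b := A) hx)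
    have hYA : Y ≤ centralizer (A : Set G) := by
      rw [← hYP]
      exact commutator_le_centralizer (hYE.trans hEA) hPA
    have hAM : ¬ A ≤ M := fun h => not_ea_sq_of_cyclic_sylow hP hPc h hA.2.1 hA.2.2
    exact key (mstar_case hG h16 h17 h18 h19 hM hpq hqM hY hY1 hYM hP.isPGroup hP1 hP.le hPY
      hA.2.1 hA.2.2 hYA hAM)

/-- Theorem 13.3 (prime action), subgroup form. -/
theorem theoremA [Finite G] (hG : Cfsg.IsMinSimpleOddOrder G) (h16 : BG12.C16 G) (h17 : T1417 G)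
    (h18 : T1418 G) (h19 : T1419 G) {M : Subgroup G} (hM : IsCoatom M) {p : ℕ}
    [hp : Fact p.Prime] (hpM : p ∉ Cfsg.sigma M)
    {P X₀ : Subgroup G} (hP : IsSylowIn p P M) (hPc : IsCyclic P) (hX₀P : X₀ ≤ P)
    (hX₀ : Nat.card X₀ = p) :
    Cfsg.sigmaCore M ⊓ centralizer (X₀ : Set G) ≤ centralizer (P : Set G) := by
  by_contra hcon
  set D := Cfsg.sigmaCore M ⊓ centralizer (X₀ : Set G) with hD
  have hPX : P ≤ normalizer (X₀ : Set G) := BG12.normalizer_le_normalizer_of_isCyclic hPc hX₀P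
    |>.trans' le_normalizer
  have hPC : P ≤ normalizer ((centralizer (X₀ : Set G) : Subgroup G) : Set G) := by
    intro x hx
    apply mem_normalizer_of_cj_eq
    rw [← centralizer_cj, cj_eq_of_mem_normalizer (hPX hx)]
  have hPD : P ≤ normalizer (D : Set G) :=
    le_normalizer_inf (hP.le.trans (BG12.le_normalizer_sigmaCore M)) hPC
  have hσ := BG12.sigmaCore_hall hG hM
  have hDp : ¬ p ∣ Nat.card D := fun h =>
    hpM (hσ.2.1 p hp.out (h.trans (card_dvd_of_le inf_le_left)))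
  have hcop : (Nat.card P).Coprime (Nat.card D) := by
    obtain ⟨n, hn⟩ := IsPGroup.iff_card.mp hP.isPGroup
    rw [hn]
    exact Nat.Coprime.pow_left n ((Nat.Prime.coprime_iff_not_dvd hp.out).mpr hDp)
  have hsolv : Group.IsSolvable P ∨ Group.IsSolvable D := by
    left
    have := hP.isPGroup.isNilpotent
    infer_instance
  obtain ⟨q, hq, Y, hqD, hYD, hY, hY1, hPY, hYP⟩ := exists_comm_pgroup hPD hcop hsolv hcon
  have hqM : q ∈ Cfsg.sigma M := hσ.2.1 q hq.out (hqD.trans (card_dvd_of_le inf_le_left))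
  exact core hG h16 h17 h18 h19 hM hpM hqM hP hPc hX₀P hX₀ hY hY1
    ((hYD.trans inf_le_left).trans (BG12.sigmaCore_le M)) (hYD.trans inf_le_right) hPY hYP

/-- a Sylow subgroup of a complement `E` of `M_σ` is a Sylow subgroup of `M`. -/
theorem isSylowIn_of_compl [Finite G] (hG : Cfsg.IsMinSimpleOddOrder G) {M : Subgroup G}
    (hM : IsCoatom M) {E : Subgroup G} (hE : Cfsg.IsComplIn E (Cfsg.sigmaCore M) M) {p : ℕ}
    [hp : Fact p.Prime] {P : Subgroup G} (hP : IsSylowIn p P E) (hpM : p ∉ Cfsg.sigma M) :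
    IsSylowIn p P M := by
  refine ⟨hP.le.trans hE.1, hP.isPGroup, ?_⟩
  rw [← relIndex_mul_relIndex P E M hP.le hE.1]
  intro h
  rcases (Nat.Prime.dvd_mul hp.out).mp h with h | h
  · exact hP.not_dvd h
  · exact (BG12.isPiHallOf_compl hG hM hE).2.2 p hp.out hpM h

/-- a nontrivial element of a `p`-group has a power of order `p`. -/
theorem exists_pow_orderOf_eq [Finite G] {p : ℕ} [hp : Fact p.Prime] {P : Subgroup G}
    (hP : IsPGroup p P) {x : G} (hx : x ∈ P) (hx1 : x ≠ 1) : ∃ n : ℕ, orderOf (x ^ n) = p := by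
  obtain ⟨k, hk⟩ := hP ⟨x, hx⟩
  have hk' : x ^ p ^ k = 1 := by simpa using congrArg Subtype.val hk
  obtain ⟨m, -, hm⟩ := (Nat.dvd_prime_pow hp.out).mp (orderOf_dvd_of_pow_eq_one hk')
  cases m with
  | zero =>
    rw [pow_zero, orderOf_eq_one_iff] at hm
    exact absurd hm hx1
  | succ m =>
    refine ⟨p ^ m, ?_⟩
    rw [orderOf_pow_of_dvd (pow_ne_zero _ hp.out.ne_zero) (by rw [hm]; exact pow_dvd_pow p (by omega)),
      hm, pow_succ, Nat.mul_div_cancel_left _ (pow_pos hp.out.pos m)]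

/-- statement S1427 from the texts of S1416-S1419. -/
theorem S1427_of [Finite G] (hG : Cfsg.IsMinSimpleOddOrder G) (h16 : T1416 G) (h17 : T1417 G)
    (h18 : T1418 G) (h19 : T1419 G)
    (M : Subgroup G) (hM : IsCoatom M) (E : Subgroup G)
    (hE : Cfsg.IsComplIn E (Cfsg.sigmaCore M) M) (p : ℕ) [hp : Fact p.Prime] (S : Sylow p E)
    (hSc : IsCyclic (S : Subgroup E)) :
    ∀ x ∈ (S : Subgroup E).map E.subtype, x ≠ 1 →
        Cfsg.sigmaCore M ⊓ Subgroup.centralizer ({x} : Set G) =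
          Cfsg.sigmaCore M ⊓
            Subgroup.centralizer (((S : Subgroup E).map E.subtype : Subgroup G) : Set G) := by
  intro x hx hx1
  have h16' : BG12.C16 G := fun M hM p _ A h1 h2 h3 => h16 M hM p A ⟨h1, h2, h3⟩
  set P := (S : Subgroup E).map E.subtype with hPdef
  have hPE : IsSylowIn p P E := isSylowIn_of_sylow S
  have hP1 : P ≠ ⊥ := by
    intro h
    apply hx1
    rw [h, mem_bot] at hx
    exact hx
  have hpE : p ∣ Nat.card E :=
    (dvd_card_of_isPGroup_ne_bot hPE.isPGroup hP1).trans (card_dvd_of_le hPE.le)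
  have hpM : p ∉ Cfsg.sigma M := BG12.not_mem_sigma_of_dvd_compl hG hM hE hp.out hpE
  have hP : IsSylowIn p P M := isSylowIn_of_compl hG hM hE hPE hpM
  have hPc : IsCyclic P := by
    have e : (S : Subgroup E) ≃* P :=
      (S : Subgroup E).equivMapOfInjective _ E.subtype_injective
    exact isCyclic_of_surjective e e.surjective
  obtain ⟨n, hn⟩ := exists_pow_orderOf_eq hP.isPGroup hx hx1
  have hA := theoremA hG h16' h17 h18 h19 hM hpM hP hPc (X₀ := zpowers (x ^ n))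
    (by rw [zpowers_le]; exact P.pow_mem hx n) (by rw [Nat.card_zpowers, hn])
  apply le_antisymm
  · refine le_inf inf_le_left (le_trans (inf_le_inf_left _ ?_) hA)
    intro c hc
    rw [mem_centralizer_iff] at hc ⊢
    intro y hy
    obtain ⟨k, rfl⟩ := mem_zpowers_iff.mp hy
    have h1 : Commute x c := hc x rfl
    exact ((h1.pow_left n).zpow_left k)
  · exact inf_le_inf_left _ (centralizer_le (by simpa using hx))

end Cfsg.Agent.Lib.Helper58.BG13
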