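import Cfsg.Agent.Lib.Helper58.BG13c
import Cfsg.Agent.Lib.Helper31.BG134C
import Cfsg.Agent.S1350
import Cfsg.Agent.S1403
import Cfsg.Agent.S1404
import Cfsg.Agent.S1405
import Cfsg.Agent.S1406
import Cfsg.Agent.S1409
import Cfsg.Agent.S1411
import Cfsg.Agent.S1414
import Cfsg.Agent.S1415
import Cfsg.Agent.S1416
import Cfsg.Agent.S1417
import Cfsg.Agent.S1418
import Cfsg.Agent.S1422
import Cfsg.Agent.S1423

/-!
Bender-Glauberman 13.4 (statement S1428): unconditional versions of `Texts0`, `Core1428` and of the text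
of S1428.
-/

set_option autoImplicit false

namespace Cfsg.Agent.Lib.Helper58.BG13

open Subgroup

universe u

variable {G : Type u} [Group G]

/-- all the texts of `Texts0`, unconditionally. -/
theorem texts0 [Finite G] (hG : Cfsg.IsMinSimpleOddOrder G) :
    Cfsg.Agent.Lib.Helper2.BG139.Texts0 G where
  hG := hG
  hU := fun K h1 h2 h3 => Cfsg.Agent.S1403.result hG K h1 h2 h3
  t04 := fun M hM p _ hp X h1 h2 h3 => Cfsg.Agent.S1404.result hG M hM p hp X h1 h2 h3
  t05 := fun M hM => (Cfsg.Agent.S1405.result hG M hM).1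
  t05n := fun M hM => (Cfsg.Agent.S1405.result hG M hM).2.2.2.2
  t06 := fun M hM X h1 h2 h3 => Cfsg.Agent.S1406.result hG M hM X h1 h2 h3
  t09 := fun M hM p _ hp X h1 h2 => (Cfsg.Agent.S1409.result hG M hM p hp X h1 h2).1
  t11 := fun p _ P V hV => (Cfsg.Agent.S1411.result hG p P V hV).1
  t14 := fun M hM => ⟨(Cfsg.Agent.S1414.result hG M hM).1, (Cfsg.Agent.S1414.result hG M hM).2.2.2.1⟩
  t15 := fun M hM E hE => Cfsg.Agent.S1415.result hG M hM E hE
  t17 := fun M hM p _ hp A hA =>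
    ⟨(Cfsg.Agent.S1417.result hG M hM p hp A hA).1, (Cfsg.Agent.S1417.result hG M hM p hp A hA).2.2.1⟩
  t22 := fun p _ P hP hna => Cfsg.Agent.S1422.result hG p P hP hna
  t23 := fun M hM p _ hp X h1 h2 P h => Cfsg.Agent.S1423.result hG M hM p hp X h1 h2 P h
  t50 := fun M hM => (Cfsg.Agent.S1350.result hG M hM).1

/-- the core case of B-G 13.4, unconditionally (binders of `Helper2.BG139.Core1428`). -/
theorem core1428_uncond [Finite G] (hG : Cfsg.IsMinSimpleOddOrder G) :
    Cfsg.Agent.Lib.Helper2.BG139.Core1428 G :=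
  core1428_of (texts0 hG)
    (fun M hM p _ hp A hA => Cfsg.Agent.S1417.result hG M hM p hp A hA)
    (fun M hM E hE p _ hp A hA => Cfsg.Agent.S1418.result hG M hM E hE p hp A hA)

/-- the core case of B-G 13.4, unconditionally (binders of `Helper31.BG134.Core1428`). -/
theorem core1428_uncond' [Finite G] (hG : Cfsg.IsMinSimpleOddOrder G) :
    Cfsg.Agent.Lib.Helper31.BG134.Core1428 G := by
  intro M H p r q _ hr _ P R Y hM hH hp hPM hP hRM hRP hR hrp hrM hqM hY1 hYM hYq hYP hRY hYR hNP hqH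
  exact core1428_uncond hG M hM p r q hp hr.out hrp hrM hqM P R Y H hPM hP hRM hRP hR hYq hY1 hYM hYP
    hRY hYR hH hNP hqH

/-- the text of S1428, unconditionally. -/
theorem t1428 [Finite G] (hG : Cfsg.IsMinSimpleOddOrder G) : Cfsg.Agent.Lib.Helper2.BG139.T1428 G :=
  Cfsg.Agent.Lib.Helper31.BG134.S1428_of (texts0 hG)
    (fun M hM p _ A h1 h2 h3 => (Cfsg.Agent.S1416.result hG M hM p A ⟨h1, h2, h3⟩).1)
    (core1428_uncond' hG)

end Cfsg.Agent.Lib.Helper58.BG13
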