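import Cfsg.Agent.Lib.Helper58.BG1212b
import Cfsg.Agent.Lib.Helper1.BG1212NORM
import Cfsg.Agent.Lib.Helper1.BG1212ABA0
import Cfsg.Agent.Lib.Helper29.BG1212NA
import Cfsg.Agent.Lib.Helper31.BG1212LINE
import Cfsg.Agent.Lib.Helper39.BG1212Step
import Cfsg.Agent.Lib.Helper62.BG1212CycInv

/-!
Ladder BG1212 (statement S1421): rung FIN and the assembly.
-/

set_option autoImplicit false
set_option linter.style.haveILetI false
set_option linter.unusedSectionVars false

namespace Cfsg.Agent.Lib.Helper58.BG1212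

open Subgroup Cfsg.Agent.Lib.Helper28 Cfsg.Agent.Lib.Helper30 Cfsg.Agent.Lib.Helper58.BG13
open Cfsg.Agent.Lib.Helper1.BG1212 (comm_normalizer_le sylow_normal conclA_ab)
open Cfsg.Agent.Lib.Helper29.BG1212 (na)

universe u

variable {G : Type u} [Group G]

/-- the property used in the descent. -/
def Good (M E F : Subgroup G) : Prop :=
  F ≤ E ∧ Monoid.exponent F = Monoid.exponent E ∧
    ∀ p : ℕ, p ∈ Cfsg.tau2 M →
      (∀ e ∈ F, orderOf e = p → Cfsg.sigmaCore M ⊓ centralizer ({e} : Set G) = ⊥) ∨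
        ∀ S : Subgroup G, IsSylowIn p S E → S ≤ F

/-- **FIN.** -/
theorem conclB_ab [Finite G] (hG : Cfsg.IsMinSimpleOddOrder G) {M E : Subgroup G}
    (hM : IsCoatom M) (hE : Cfsg.IsComplIn E (Cfsg.sigmaCore M) M) (h : Hyp M E) (hab : AbTau2 M) :
    ConclB M E := by
  have hne : {F : Subgroup G | Good M E F}.Nonempty :=
    ⟨E, le_rfl, rfl, fun p _ => Or.inr fun S hS => hS.le⟩
  obtain ⟨F, hF, hmin⟩ := (Set.toFinite {F : Subgroup G | Good M E F}).exists_minimal hne
  obtain ⟨hFE, hFexp, hFp⟩ := hF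
  have hall : ∀ p : ℕ, p ∈ Cfsg.tau2 M →
      ∀ e ∈ F, orderOf e = p → Cfsg.sigmaCore M ⊓ centralizer ({e} : Set G) = ⊥ := by
    intro p hp
    have : Fact p.Prime := ⟨hp.1⟩
    rcases hFp p hp with h1 | h1
    · exact h1
    obtain ⟨S, hS⟩ := exists_isSylowIn p E
    have hSF : S ≤ F := h1 S hS
    have hES := sylow_normal hG hM hE hab hp hS
    have hSsF : IsSylowIn p S F := by
      refine ⟨hSF, hS.isPGroup, fun hd => hS.not_dvd ?_⟩
      rw [← relIndex_mul_relIndex S F E hSF hFE]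
      exact Dvd.dvd.mul_right hd _
    obtain ⟨X, hX, hEX, hXreg, u, hu, hmax, hXu⟩ :=
      Cfsg.Agent.Lib.Helper31.BG1212.exists_line_of hG hM hE hab hp hS
        (fun A hAE hA hA2 => exists_invariant_line hG hM hE hp hAE hA hA2 h hab)
        (fun A hA hA2 => comm_normalizer_le hG (hab p hp) hA hA2) hES
    obtain ⟨F', hF'F, hF'exp, hF'p, hF'Q⟩ := Cfsg.Agent.Lib.Helper39B.BG1212.step_of hSsF
      (hFE.trans hES) hX (hFE.trans hEX) hu hmax
      (fun K hKS hKp hKX => Cfsg.Agent.Lib.Helper62.BG1212.exists_invariant_cyclic hS.isPGroup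
        (fun a ha b hb => hab p hp S hS.isPGroup a ha b hb) hKS hKp hX hKX hu hmax hXu)
    have hreg' : ∀ e ∈ F', orderOf e = p →
        Cfsg.sigmaCore M ⊓ centralizer ({e} : Set G) = ⊥ := by
      intro e he heo
      have heX := hF'p e he heo
      have he1 : e ≠ 1 := by
        rintro rfl
        rw [orderOf_one] at heo
        exact hp.1.one_lt.ne heo
      have hXe : X = zpowers e :=
        Cfsg.Agent.Lib.Helper13.BG127.eq_zpowers_of_card_prime hX heX he1
      rw [← centralizer_zpowers', ← hXe]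
      exact hXreg
    have hgood : Good M E F' := by
      refine ⟨hF'F.trans hFE, hF'exp.trans hFexp, ?_⟩
      intro q hq
      have : Fact q.Prime := ⟨hq.1⟩
      by_cases hqp : q = p
      · subst hqp
        exact Or.inl hreg'
      rcases hFp q hq with h2 | h2
      · exact Or.inl fun e he => h2 e (hF'F he)
      · right
        intro T hT
        exact hF'Q T (h2 T hT) (hFE.trans (sylow_normal hG hM hE hab hq hT))
          (coprime_card_of_isPGroup hqp hT.isPGroup)
    have hFF' : F ≤ F' := hmin hgood hF'F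
    exact fun e he => hreg' e (hFF' he)
  refine ⟨F, hFE, hFexp, reg_of_prime ?_⟩
  intro e he her
  rcases tau_of_dvd_card hG hM hE her (orderOf_dvd_card_of_mem (hFE he)) with h1 | h1
  · exact reg_of_tau13 h (hFE he) her h1
  · exact hall _ h1 e he rfl

theorem main [Finite G] (hG : Cfsg.IsMinSimpleOddOrder G) {M E : Subgroup G}
    (hM : IsCoatom M) (hE : Cfsg.IsComplIn E (Cfsg.sigmaCore M) M) (h : Hyp M E) :
    ConclA M E ∧ ConclB M E := by
  by_cases hab : AbTau2 M
  · exact ⟨conclA_ab hG hM hE h hab, conclB_ab hG hM hE h hab⟩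
  · unfold AbTau2 at hab
    push Not at hab
    obtain ⟨p, hp, hnab⟩ := hab
    have : Fact p.Prime := ⟨hp.1⟩
    refine na hG hM hE h hp ?_
    intro S hS
    apply hnab
    intro P hP a ha b hb
    have hSs : IsSylowIn p (S : Subgroup G) ⊤ :=
      ⟨le_top, S.2, by rw [relIndex_top_right]; exact S.not_dvd_index⟩
    obtain ⟨T, hT, hPT⟩ := exists_isSylowIn_ge (K := ⊤) le_top hP
    obtain ⟨c, -, hc⟩ := hSs.conj hT
    have h1 : ∀ x ∈ P, c⁻¹ * x * c ∈ (S : Subgroup G) := by
      intro x hx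
      have := hPT hx
      rw [hc] at this
      exact mem_cj.mp this
    have h2 := congrArg Subtype.val (hS.is_comm.comm ⟨_, h1 a ha⟩ ⟨_, h1 b hb⟩)
    simp only [Subgroup.coe_mul] at h2
    have h3 : c⁻¹ * (a * b) * c = c⁻¹ * (b * a) * c := by
      calc c⁻¹ * (a * b) * c = (c⁻¹ * a * c) * (c⁻¹ * b * c) := by group
        _ = (c⁻¹ * b * c) * (c⁻¹ * a * c) := h2
        _ = c⁻¹ * (b * a) * c := by group
    exact mul_left_cancel (mul_right_cancel h3)

end Cfsg.Agent.Lib.Helper58.BG1212
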