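import Cfsg.Agent.Lib.Helper58.BG13a
import Cfsg.Agent.Lib.Helper31.BG1217
import Cfsg.Agent.Lib.Helper14.BG12B
import Cfsg.Agent.Lib.Helper69.BG36C0
import Cfsg.Agent.Lib.Helper29.BG139F
import Cfsg.Agent.S1406
import Cfsg.Agent.S1408

/-!
Bender-Glauberman section 13: the core of Theorem 13.3 (statement S1428):
`C_{M_σ}(P) ≤ C(R)` for `p ∈ τ₁(M)`, under the extra hypothesis `q ∉ σ(H)`, `H ≥ N(P)`.
-/

set_option autoImplicit false
set_option linter.style.haveILetI false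
set_option linter.unusedSectionVars false

namespace Cfsg.Agent.Lib.Helper58.BG13

open Subgroup Cfsg.Agent.Lib.Helper28 Cfsg.Agent.Lib.Helper30
open Cfsg.Agent.Lib.Helper28.BG12 (T1415 T1416 T1417 T1418 T1419)
open scoped commutatorElement

universe u

variable {G : Type u} [Group G]

theorem eq_of_le_cyclic_of_card_eq [Finite G] {X Y S : Subgroup G} (hS : IsCyclic S) (hXS : X ≤ S)
    (hYS : Y ≤ S) (h : Nat.card X = Nat.card Y) : X = Y := by
  have h3 : X.subgroupOf S = Y.subgroupOf S := by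
    apply Cfsg.Agent.Lib.Helper70.eq_of_card_eq_of_isCyclic
    rw [Nat.card_congr (subgroupOfEquivOfLe hXS).toEquiv,
      Nat.card_congr (subgroupOfEquivOfLe hYS).toEquiv, h]
  have h4 := congrArg (Subgroup.map S.subtype) h3
  rwa [map_subgroupOf_eq_of_le hXS, map_subgroupOf_eq_of_le hYS] at h4

theorem isPGroup_of_card_prime {p : ℕ} [Fact p.Prime] {X : Subgroup G} (h : Nat.card X = p) :
    IsPGroup p X := IsPGroup.of_card (n := 1) (by rw [h, pow_one])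

theorem ne_bot_of_card_prime {p : ℕ} [hp : Fact p.Prime] {X : Subgroup G} (h : Nat.card X = p) :
    X ≠ ⊥ := by
  rintro rfl
  rw [card_bot] at h
  exact hp.out.one_lt.ne h

/-- `p`-subgroups of a group of `p`-rank at most one are cyclic (`p` odd). -/
theorem isCyclic_of_pRankLE_one [Finite G] {p : ℕ} [Fact p.Prime] (hp2 : p ≠ 2) {H S : Subgroup G}
    (hr : Cfsg.PRankLE p 1 H) (hSH : S ≤ H) (hS : IsPGroup p S) : IsCyclic S := by
  by_contra hnc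
  obtain ⟨A, hAS, hA, hc⟩ := BG12.exists_ea_sq_of_not_cyclic hp2 hS hnc
  exact BG9.not_pRankLE_of_le (hAS.trans hSH) hA
    (by rw [hc]; exact Nat.pow_lt_pow_right (Fact.out : p.Prime).one_lt (by norm_num)) hr

theorem not_conj_of_tau1 [Finite G] {p : ℕ} [hp : Fact p.Prime] {M H : Subgroup G}
    (hpM : p ∈ Cfsg.tau1 M) (hpH : p ∈ Cfsg.sigma H ∨ p ∈ Cfsg.tau2 H) (g : G) : H ≠ cj g M := by
  rintro rfl
  rcases hpH with h | h
  · apply hpM.2.1
    have := sigma_cj h g⁻¹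
    rwa [cj_inv_cj] at this
  · obtain ⟨A, hA, hAe, hc⟩ := BG12.exists_ea_sq_of_tau2 h
    have h1 : cj g⁻¹ A ≤ M := by
      have := cj_mono g⁻¹ hA
      rwa [cj_inv_cj] at this
    exact BG9.not_pRankLE_of_le h1 (Cfsg.Agent.Lib.Helper2.ea_cj hAe g⁻¹)
      (by rw [card_cj, hc]; exact Nat.pow_lt_pow_right hp.out.one_lt (by norm_num)) hpM.2.2.2.2

theorem le_normalizer_commutator_self (H : Subgroup G) : H ≤ normalizer ((⁅H, H⁆ : Subgroup G) : Set G) :=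
  le_normalizer_commutator le_normalizer le_normalizer

/-- a subgroup of order `r ∈ τ₃(H)` of `H` lies in `H'`. -/
theorem le_commutator_of_tau3 [Finite G] (hG : Cfsg.IsMinSimpleOddOrder G) {r : ℕ}
    [hr : Fact r.Prime] {H R : Subgroup G}
    (hrH : r ∈ Cfsg.tau3 H) (hRH : R ≤ H) (hR : Nat.card R = r) : R ≤ ⁅H, H⁆ := by
  have hRp : IsPGroup r R := isPGroup_of_card_prime hR
  have hr2 : r ≠ 2 := BG12.ne_two_of_isPGroup hG hRp (ne_bot_of_card_prime hR)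
  obtain ⟨S, hS, hRS⟩ := exists_isSylowIn_ge hRH hRp
  have hSc : IsCyclic S := isCyclic_of_pRankLE_one hr2 hrH.2.2.2 hS.le hS.isPGroup
  obtain ⟨x, hx⟩ := exists_prime_orderOf_dvd_card' (G := ↥⁅H, H⁆) r hrH.2.2.1
  have hHH : ⁅H, H⁆ ≤ H := commutator_le_self H
  set X : Subgroup G := zpowers (x : G) with hX
  have hXc : Nat.card X = r := by rw [hX, Nat.card_zpowers, Subgroup.orderOf_coe, hx]
  have hXH' : X ≤ ⁅H, H⁆ := by rw [hX, zpowers_le]; exact x.2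
  obtain ⟨S', hS', hXS'⟩ := exists_isSylowIn_ge (hXH'.trans hHH) (isPGroup_of_card_prime hXc)
  obtain ⟨h, hh, rfl⟩ := hS'.conj hS
  have h1 : cj h X ≤ cj h S' := cj_mono h hXS'
  have h2 : cj h X = R := eq_of_le_cyclic_of_card_eq hSc h1 hRS (by rw [card_cj, hXc, hR])
  rw [← h2]
  calc cj h X ≤ cj h ⁅H, H⁆ := cj_mono h hXH'
    _ = ⁅H, H⁆ := cj_eq_of_mem_normalizer (le_normalizer_commutator_self H hh)

/-- classification of a prime divisor `r ∉ σ(H)` of `#H`. -/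
theorem tau_cases [Finite G] (hG : Cfsg.IsMinSimpleOddOrder G) {H : Subgroup G} (hH : IsCoatom H)
    {r : ℕ} (hr : r.Prime) (hrH : r ∣ Nat.card H) (hrs : r ∉ Cfsg.sigma H) :
    r ∈ Cfsg.tau1 H ∨ r ∈ Cfsg.tau2 H ∨ r ∈ Cfsg.tau3 H := by
  by_cases h1 : Cfsg.PRankLE r 1 H
  · by_cases h2 : r ∣ Nat.card ↥⁅H, H⁆
    · exact Or.inr (Or.inr ⟨hr, hrs, h2, h1⟩)
    · exact Or.inl ⟨hr, hrs, hrH, h2, h1⟩
  · exact Or.inr (Or.inl ⟨hr, hrs, BG12.pRankLE_two_of_not_mem_sigma hG hH hr hrs, h1⟩)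

theorem comm_le_centralizer_of_isCyclic {D L : Subgroup G} (hD : IsCyclic D)
    (hL : L ≤ normalizer (D : Set G)) : ⁅L, L⁆ ≤ centralizer (D : Set G) := by
  rw [Subgroup.commutator_le]
  intro x hx y hy
  have hcomm : ∀ f g : MulAut D, f * g = g * f := by
    intro f g
    apply (hD.mulAutMulEquiv D).injective
    rw [map_mul, map_mul, mul_comm]
  have h1 : (⁅(⟨x, hL hx⟩ : Subgroup.normalizer (D : Set G)), ⟨y, hL hy⟩⁆) ∈
      D.normalizerMonoidHom.ker := by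
    rw [MonoidHom.mem_ker, map_commutatorElement, commutatorElement_eq_one_iff_mul_comm]
    exact hcomm _ _
  rw [Subgroup.normalizerMonoidHom_ker, Subgroup.mem_subgroupOf] at h1
  exact h1

theorem prime_dvd_card_sup' [Finite G] {X Z : Subgroup G} (hXZ : X ≤ normalizer (Z : Set G)) {t : ℕ}
    (ht : t.Prime) (hd : t ∣ Nat.card (X ⊔ Z : Subgroup G)) : t ∣ Nat.card X ∨ t ∣ Nat.card Z := by
  have h1 := Cfsg.Agent.Lib.Helper12.card_sup_mul_card_inf' X Z hXZ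
  have h2 : t ∣ Nat.card X * Nat.card Z := h1 ▸ Dvd.dvd.mul_right hd _
  exact (Nat.Prime.dvd_mul ht).mp h2

/-! ### factorizations `L = B D` with `B` normal -/

section Factor

variable [Finite G] {B D L : Subgroup G}

theorem relIndex_dvd_card_of_factor (hLB : L ≤ normalizer (B : Set G)) (hDL : D ≤ L)
    (hBL : B ≤ L) (hf : L ≤ B ⊔ D) : D.relIndex L ∣ Nat.card B := by
  have hL : D ⊔ B = L := le_antisymm (sup_le hDL hBL) (by rw [sup_comm]; exact hf)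
  have h1 := Cfsg.Agent.Lib.Helper12.card_sup_mul_card_inf' D B (hDL.trans hLB)
  rw [hL, card_eq_card_mul_relIndex hDL, mul_assoc] at h1
  have h2 : D.relIndex L * Nat.card (D ⊓ B : Subgroup G) = Nat.card B :=
    Nat.eq_of_mul_eq_mul_left Nat.card_pos h1
  exact Dvd.intro _ h2

theorem exists_cj_le_of_factor (hLB : L ≤ normalizer (B : Set G)) (hDL : D ≤ L)
    (hBL : B ≤ L) (hf : L ≤ B ⊔ D) {p : ℕ} [hp : Fact p.Prime] (hpB : ¬ p ∣ Nat.card B)
    {X : Subgroup G} (hXL : X ≤ L) (hX : IsPGroup p X) : ∃ l : G, cj l X ≤ D := by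
  obtain ⟨X', hX'⟩ := exists_isSylowIn p D
  have hX'L : IsSylowIn p X' L := by
    refine ⟨hX'.le.trans hDL, hX'.isPGroup, ?_⟩
    rw [← relIndex_mul_relIndex X' D L hX'.le hDL]
    intro h
    rcases (Nat.Prime.dvd_mul hp.out).mp h with h | h
    · exact hX'.not_dvd h
    · exact hpB (h.trans (relIndex_dvd_card_of_factor hLB hDL hBL hf))
  obtain ⟨S, hS, hXS⟩ := exists_isSylowIn_ge hXL hX
  obtain ⟨k, -, rfl⟩ := hS.conj hX'L
  exact ⟨k, (cj_mono k hXS).trans hX'.le⟩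

theorem commutator_le_of_factor (hLB : L ≤ normalizer (B : Set G)) (hDL : D ≤ L)
    (hf : L ≤ B ⊔ D) : ⁅L, L⁆ ≤ B ⊔ ⁅D, D⁆ := by
  have hDB : D ≤ normalizer (B : Set G) := hDL.trans hLB
  have hconj : ∀ d ∈ D, ∀ b ∈ B, d * b * d⁻¹ ∈ B := fun d hd b hb =>
    (mem_normalizer_iff.mp (hDB hd) b).mp hb
  rw [commutator_le]
  intro x hx y hy
  have hx' : x ∈ D ⊔ B := by rw [sup_comm]; exact hf hx
  have hy' : y ∈ D ⊔ B := by rw [sup_comm]; exact hf hy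
  obtain ⟨d₁, hd₁, b₁, hb₁, rfl⟩ := (Cfsg.Agent.Lib.Helper1.mem_sup_of_le_normalizer hDB).mp hx'
  obtain ⟨d₂, hd₂, b₂, hb₂, rfl⟩ := (Cfsg.Agent.Lib.Helper1.mem_sup_of_le_normalizer hDB).mp hy'
  have e : ⁅d₁ * b₁, d₂ * b₂⁆ = (d₁ * b₁ * d₁⁻¹) * ((d₁ * d₂) * (b₂ * b₁⁻¹) * (d₁ * d₂)⁻¹) *
      ((d₁ * d₂ * d₁⁻¹) * b₂⁻¹ * (d₁ * d₂ * d₁⁻¹)⁻¹) * ⁅d₁, d₂⁆ := by
    simp only [commutatorElement_def]
    group
  rw [e]
  refine mul_mem (le_sup_left (b := ⁅D, D⁆) ?_) (le_sup_right (a := B) (commutator_mem_commutator hd₁ hd₂))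
  exact B.mul_mem (B.mul_mem (hconj _ hd₁ _ hb₁)
    (hconj _ (D.mul_mem hd₁ hd₂) _ (B.mul_mem hb₂ (B.inv_mem hb₁))))
    (hconj _ (D.mul_mem (D.mul_mem hd₁ hd₂) (D.inv_mem hd₁)) _ (B.inv_mem hb₂))

theorem dvd_card_commutator_of_factor (hLB : L ≤ normalizer (B : Set G)) (hDL : D ≤ L)
    (hf : L ≤ B ⊔ D) {p : ℕ} (hp : p.Prime) (hpB : ¬ p ∣ Nat.card B)
    (hpL : p ∣ Nat.card ↥⁅L, L⁆) : p ∣ Nat.card ↥⁅D, D⁆ := by
  have h1 := hpL.trans (card_dvd_of_le (commutator_le_of_factor hLB hDL hf))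
  rw [sup_comm] at h1
  rcases prime_dvd_card_sup' (((commutator_le_self D).trans hDL).trans hLB) hp h1 with h | h
  · exact h
  · exact absurd h hpB

end Factor

theorem orderOf_dvd_card_of_mem [Finite G] {X : Subgroup G} {x : G} (hx : x ∈ X) :
    orderOf x ∣ Nat.card X := by
  have := orderOf_dvd_natCard (⟨x, hx⟩ : X)
  rwa [← Subgroup.orderOf_coe] at this

theorem eq_bot_of_isPGroup_of_coprime [Finite G] {p : ℕ} [hp : Fact p.Prime] {X : Subgroup G}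
    (hX : IsPGroup p X) (hc : (Nat.card X).Coprime p) : X = ⊥ := by
  by_contra h
  exact (Nat.Prime.coprime_iff_not_dvd hp.out).mp hc.symm (dvd_card_of_isPGroup_ne_bot hX h)

/-- `p ∈ σ(H) \ β(H)`: a complement `E` of `H_σ` does not centralize a Sylow `p`-subgroup
of `H_σ`. -/
theorem sylow_commutator_ne_bot [Finite G] (hG : Cfsg.IsMinSimpleOddOrder G) {H : Subgroup G}
    (hH : IsCoatom H) {E : Subgroup G} (hE : Cfsg.IsComplIn E (Cfsg.sigmaCore H) H) {p : ℕ}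
    [hp : Fact p.Prime] (hpσ : p ∈ Cfsg.sigma H) (hpβ : p ∉ Cfsg.beta H) {S : Subgroup G}
    (hS : IsSylowIn p S (Cfsg.sigmaCore H)) : ⁅S, E⁆ ≠ ⊥ := by
  intro hbot
  set Hs := Cfsg.sigmaCore H with hHs
  obtain ⟨P₀, N, hN, hc⟩ := ((Cfsg.Agent.S1414.result hG H hH).2.2.2.2 p hp.out hpσ.2.1 hpβ).2.1
  set K₀ : Subgroup G := N.map Hs.subtype with hK₀
  have hK₀n : Hs ≤ normalizer (K₀ : Set G) := le_normalizer_map_subtype hN
  have hK₀cop : (Nat.card K₀).Coprime p := by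
    rw [hK₀, card_map_of_injective Hs.subtype_injective, ← hc.index_eq_card, Nat.coprime_comm,
      hp.out.coprime_iff_not_dvd]
    exact P₀.not_dvd_index
  obtain ⟨k, hk⟩ := (IsPGroup.iff_card.mp P₀.isPGroup')
  have hmem : ∀ x ∈ Hs, (orderOf x).Coprime p → x ∈ K₀ := by
    intro x hx hxo
    refine ⟨⟨x, hx⟩, ?_, rfl⟩
    apply Cfsg.Agent.Lib.Helper40.BG12.mem_of_normal_of_coprime
    rw [hc.symm.index_eq_card, hk]
    apply Nat.Coprime.pow_right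
    rwa [← Subgroup.orderOf_coe]
  have hEK : E ≤ normalizer (K₀ : Set G) := by
    intro e he
    apply BG12.mem_normalizer_of_cj_le'
    intro y hy
    apply hmem
    · have h1 : cj e K₀ ≤ cj e Hs := cj_mono e (map_subtype_le _)
      rw [cj_eq_of_mem_normalizer (BG12.le_normalizer_sigmaCore H (hE.1 he))] at h1
      exact h1 hy
    · have h2 := orderOf_dvd_card_of_mem hy
      rw [card_cj] at h2
      exact Nat.Coprime.coprime_dvd_left h2 hK₀cop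
  have hsup : Hs ≤ S ⊔ K₀ := by
    apply Cfsg.Agent.Lib.Helper68.le_of_forall_isSylowIn
    intro t ht _
    by_cases htp : t = p
    · subst htp
      exact ⟨S, hS, le_sup_left⟩
    · obtain ⟨T, hT⟩ := exists_isSylowIn t Hs
      refine ⟨T, hT, le_trans ?_ le_sup_right⟩
      intro x hx
      apply hmem x (hT.le hx)
      exact Nat.Coprime.coprime_dvd_left (orderOf_dvd_card_of_mem hx)
        (coprime_card_of_isPGroup htp hT.isPGroup)
  have hSK : S ≤ normalizer (K₀ : Set G) := hS.le.trans hK₀n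
  have h1 : ⁅Hs, E⁆ ≤ K₀ := by
    rw [commutator_le]
    intro x hx e he
    obtain ⟨s, hs, c, hc', rfl⟩ := (Cfsg.Agent.Lib.Helper1.mem_sup_of_le_normalizer hSK).mp (hsup hx)
    have h2 : ⁅s, e⁆ = 1 := by
      have : ⁅s, e⁆ ∈ ⁅S, E⁆ := commutator_mem_commutator hs he
      rwa [hbot, mem_bot] at this
    have e1 : ⁅s * c, e⁆ = s * (c * (e * c⁻¹ * e⁻¹)) * s⁻¹ * ⁅s, e⁆ := by
      simp only [commutatorElement_def]
      group
    rw [e1, h2, mul_one]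
    exact (mem_normalizer_iff.mp (hSK hs) _).mp
      (K₀.mul_mem hc' ((mem_normalizer_iff.mp (hEK he) _).mp (K₀.inv_mem hc')))
  rw [(Cfsg.Agent.Lib.Helper31.bg1217_ab hG hH hE).2] at h1
  have hS0 : S = ⊥ := eq_bot_of_isPGroup_of_coprime hS.isPGroup
    (Nat.Coprime.coprime_dvd_left (card_dvd_of_le (hS.le.trans h1)) hK₀cop)
  have hd : p ∣ Nat.card Hs := by
    have h3 := (BG12.sigmaCore_hall hG hH)
    have h4 := card_eq_card_mul_relIndex h3.1
    have h5 : p ∣ Nat.card Hs * Hs.relIndex H := h4 ▸ hpσ.2.1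
    rcases (Nat.Prime.dvd_mul hp.out).mp h5 with h | h
    · exact h
    · exact absurd h (h3.2.2 p hp.out hpσ)
  exact ne_bot_of_isSylowIn_of_dvd hS hd hS0

theorem not_isCyclic_of_ea [Finite G] {p : ℕ} [hp : Fact p.Prime] {A W : Subgroup G}
    (hA : Cfsg.IsElementaryAbelian p A) (hc : p < Nat.card A) (hAW : A ≤ W) : ¬ IsCyclic W := by
  intro hW
  have hAc : IsCyclic (A.subgroupOf W) := inferInstance
  have hAc' : IsCyclic A := isCyclic_of_surjective (subgroupOfEquivOfLe hAW)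
    (subgroupOfEquivOfLe hAW).surjective
  obtain ⟨g, hg⟩ := hAc'.exists_generator
  have h1 : orderOf g = Nat.card A := orderOf_eq_card_of_forall_mem_zpowers hg
  have h2 : g ^ p = 1 := Subtype.ext (by simpa using hA.2 g g.2)
  have h3 : Nat.card A ∣ p := by
    rw [← h1]
    exact orderOf_dvd_of_pow_eq_one h2
  exact absurd (Nat.le_of_dvd hp.out.pos h3) (not_le.mpr hc)

theorem lt_sq {p : ℕ} (hp : p.Prime) : p < p ^ 2 := by
  have := hp.one_lt
  nlinarith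

/-- step 3 of the proof of the `σ`-partition, as a hypothesis. -/
def FB (G : Type u) [Group G] : Prop :=
  ∀ (L : Subgroup G), IsCoatom L → ∀ (q : ℕ) (S : Subgroup G), q ∈ Cfsg.sigma L → q ∉ Cfsg.beta L →
    IsSylowIn q S L → ∀ m ∈ L, ∃ b ∈ Cfsg.piCoreOf (Cfsg.beta L) L, ∃ d ∈ normalizer (S : Set G),
      m = b * d

/-- B-G 12.15(e). -/
theorem caseE [Finite G] (hG : Cfsg.IsMinSimpleOddOrder G) (h16 : BG12.C16 G) (h17 : T1417 G)
    (h18 : T1418 G) {M : Subgroup G} (hM : IsCoatom M) {q : ℕ} [hq : Fact q.Prime]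
    (hqM : q ∈ Cfsg.sigma M) {Y : Subgroup G} (hY : IsPGroup q Y) (hY1 : Y ≠ ⊥) (hYM : Y ≤ M)
    {L : Subgroup G} (hL : IsCoatom L) (hne : L ≠ M) (hNY : normalizer (Y : Set G) ≤ L)
    (hqL : q ∉ Cfsg.sigma L) :
    q ∈ Cfsg.tau2 L ∧ Cfsg.sigmaCore L ⊓ M = ⊥ ∧
      ∃ E : Subgroup G, Cfsg.IsComplIn E (Cfsg.sigmaCore L) L ∧ E ≤ M := by
  have hYL : Y ≤ L := le_normalizer.trans hNY
  obtain ⟨S, hS, hYS⟩ := exists_isSylowIn_ge (le_inf hYM hYL) hY
  obtain ⟨-, -, hSd⟩ := BG12.bg1215 hG h16 hM hqM hY hY1 hYM hL hne hNY hS hYS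
  have hSL : IsSylowIn q S L := ⟨hS.le.trans inf_le_right, hS.isPGroup, hSd⟩
  have hS1 : S ≠ ⊥ := fun h => hY1 (le_bot_iff.mp (h ▸ hYS))
  have hSnc : ¬ IsCyclic S := by
    intro hc
    exact hqL (Cfsg.Agent.Lib.Helper68.mem_sigma_of_normalizer_le hSL hS1
      ((BG12.normalizer_le_normalizer_of_isCyclic hc hYS).trans hNY))
  have hq2 : q ≠ 2 := BG12.ne_two_of_isPGroup hG hY hY1
  obtain ⟨B, hBS, hB, hBc⟩ := BG12.exists_ea_sq_of_not_cyclic hq2 hS.isPGroup hSnc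
  have hBL : B ≤ L := hBS.trans hSL.le
  have hBM : B ≤ M := hBS.trans (hS.le.trans inf_le_left)
  have hτq := mem_tau2_of_ea hG hL hqL hBL hB hBc
  have h1 := (h17 L hL q hτq B ⟨hBL, hB, hBc⟩).2.2.2.2.1 M hM hne.symm hBM
  have hBp : IsPGroup q B := isPGroup_of_elementary hB
  obtain ⟨E, hE, hBE⟩ := BG12.exists_compl_ge hG hL hBL (by
    intro t ht htd
    rw [BG12.prime_dvd_card_isPGroup hBp ht htd]
    exact hqL)
  have hEB := (h18 L hL E hE q hτq B ⟨hBE, hB, hBc⟩).1.1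
  have hNB : normalizer (B : Set G) ≤ M := BG12.normalizer_le_of_noncyclic hG h16 hM hqM hBp hBM
    (not_isCyclic_of_ea hB (by rw [hBc]; exact lt_sq hq.out) le_rfl)
  exact ⟨hτq, h1, E, hE, hEB.trans hNB⟩

/-- data common to both cases of B-G 12.15 (d), (e). -/
theorem caseD [Finite G] (hG : Cfsg.IsMinSimpleOddOrder G) (h16 : BG12.C16 G) (hFB : FB G)
    {M : Subgroup G} (hM : IsCoatom M) {q : ℕ} [hq : Fact q.Prime]
    (hqM : q ∈ Cfsg.sigma M) {Y : Subgroup G} (hY : IsPGroup q Y) (hY1 : Y ≠ ⊥) (hYM : Y ≤ M)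
    {L : Subgroup G} (hL : IsCoatom L) (hne : L ≠ M) (hNY : normalizer (Y : Set G) ≤ L)
    (hqL : q ∈ Cfsg.sigma L) :
    ∃ D : Subgroup G, D ≤ L ∧ D ≤ M ∧ L ≤ Cfsg.piCoreOf (Cfsg.beta L) L ⊔ D := by
  have hYL : Y ≤ L := le_normalizer.trans hNY
  obtain ⟨S, hS, hYS⟩ := exists_isSylowIn_ge (le_inf hYM hYL) hY
  obtain ⟨hnc, hNS, hSd⟩ := BG12.bg1215 hG h16 hM hqM hY hY1 hYM hL hne hNY hS hYS
  have hSL : IsSylowIn q S L := ⟨hS.le.trans inf_le_right, hS.isPGroup, hSd⟩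
  have hqβ : q ∉ Cfsg.beta L := by
    intro hβ
    obtain ⟨g, hg⟩ := conj_of_alpha_sigma hG hL hM hβ.1 hqM
    exact hnc g hg
  refine ⟨L ⊓ normalizer (S : Set G), inf_le_left, inf_le_right.trans hNS, ?_⟩
  intro m hm
  obtain ⟨b, hb, d, hd, rfl⟩ := hFB L hL q S hqL hqβ hSL m hm
  have hbL : b ∈ L := piCoreOf_le _ _ hb
  have hdL : d ∈ L := by
    have := L.mul_mem (L.inv_mem hbL) hm
    simpa using this
  exact mul_mem (le_sup_left (b := L ⊓ normalizer (S : Set G)) hb)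
    (le_sup_right (a := Cfsg.piCoreOf (Cfsg.beta L) L) (mem_inf.mpr ⟨hdL, hd⟩))

theorem not_dvd_card_betaCore [Finite G] {L : Subgroup G} {p : ℕ} (hp : p.Prime)
    (hpβ : p ∉ Cfsg.beta L) : ¬ p ∣ Nat.card (Cfsg.piCoreOf (Cfsg.beta L) L) :=
  fun h => hpβ (piCoreOf_isPi (Cfsg.beta L) L p hp h)

/-- `p`-subgroups of `L ≥ N(Y)` are conjugate into `M`. -/
theorem transfer_i [Finite G] (hG : Cfsg.IsMinSimpleOddOrder G) (h16 : BG12.C16 G) (h17 : T1417 G)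
    (h18 : T1418 G) (hFB : FB G) {M : Subgroup G} (hM : IsCoatom M) {q : ℕ} [hq : Fact q.Prime]
    (hqM : q ∈ Cfsg.sigma M) {Y : Subgroup G} (hY : IsPGroup q Y) (hY1 : Y ≠ ⊥) (hYM : Y ≤ M)
    {L : Subgroup G} (hL : IsCoatom L) (hne : L ≠ M) (hNY : normalizer (Y : Set G) ≤ L)
    {p : ℕ} [hp : Fact p.Prime] (hpβ : p ∉ Cfsg.beta L) {P : Subgroup G} (hP : IsPGroup p P)
    (hP1 : P ≠ ⊥) (hPM : P ≤ M) (hPL : P ≤ L) {X : Subgroup G} (hXL : X ≤ L) (hX : IsPGroup p X) :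
    ∃ l : G, cj l X ≤ M := by
  by_cases hqL : q ∈ Cfsg.sigma L
  · obtain ⟨D, hDL, hDM, hf⟩ := caseD hG h16 hFB hM hqM hY hY1 hYM hL hne hNY hqL
    obtain ⟨l, hl⟩ := exists_cj_le_of_factor (le_normalizer_piCoreOf _ L) hDL (piCoreOf_le _ _) hf
      (not_dvd_card_betaCore hp.out hpβ) hXL hX
    exact ⟨l, hl.trans hDM⟩
  · obtain ⟨-, h1, E, hE, hEM⟩ := caseE hG h16 h17 h18 hM hqM hY hY1 hYM hL hne hNY hqL
    have hpL : p ∉ Cfsg.sigma L := by
      intro h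
      exact hP1 (le_bot_iff.mp (h1 ▸ le_inf (BG12.isPGroup_le_sigmaCore hG hL h hPL hP) hPM))
    obtain ⟨m, -, hm⟩ := BG12.exists_cj_le_compl hG hL hE hXL (by
      intro t ht htd
      rw [BG12.prime_dvd_card_isPGroup hX ht htd]
      exact hpL)
    exact ⟨m, hm.trans hEM⟩

/-- `p ∣ #L'` implies `p ∣ #M'`. -/
theorem transfer_ii [Finite G] (hG : Cfsg.IsMinSimpleOddOrder G) (h15 : T1415 G)
    (h16 : BG12.C16 G) (h17 : T1417 G)
    (h18 : T1418 G) (hFB : FB G) {M : Subgroup G} (hM : IsCoatom M) {q : ℕ} [hq : Fact q.Prime]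
    (hqM : q ∈ Cfsg.sigma M) {Y : Subgroup G} (hY : IsPGroup q Y) (hY1 : Y ≠ ⊥) (hYM : Y ≤ M)
    {L : Subgroup G} (hL : IsCoatom L) (hne : L ≠ M) (hNY : normalizer (Y : Set G) ≤ L)
    {p : ℕ} [hp : Fact p.Prime] (hpβ : p ∉ Cfsg.beta L) {P : Subgroup G} (hP : IsPGroup p P)
    (hP1 : P ≠ ⊥) (hPM : P ≤ M) (hPL : P ≤ L) (hr : Cfsg.PRankLE p 1 M)
    (hpL' : p ∣ Nat.card ↥⁅L, L⁆) : p ∣ Nat.card ↥⁅M, M⁆ := by
  by_cases hqL : q ∈ Cfsg.sigma L
  · obtain ⟨D, hDL, hDM, hf⟩ := caseD hG h16 hFB hM hqM hY hY1 hYM hL hne hNY hqL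
    exact (dvd_card_commutator_of_factor (le_normalizer_piCoreOf _ L) hDL hf hp.out
      (not_dvd_card_betaCore hp.out hpβ) hpL').trans (card_dvd_of_le (commutator_mono hDM hDM))
  · obtain ⟨-, h1, E, hE, hEM⟩ := caseE hG h16 h17 h18 hM hqM hY hY1 hYM hL hne hNY hqL
    have hpL : p ∉ Cfsg.sigma L := by
      intro h
      exact hP1 (le_bot_iff.mp (h1 ▸ le_inf (BG12.isPGroup_le_sigmaCore hG hL h hPL hP) hPM))
    have hrL : Cfsg.PRankLE p 1 L := by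
      by_contra hcon
      obtain ⟨A, hAL, hA, hc⟩ := exists_elementary_of_not_pRankLE hcon
      obtain ⟨l, hl⟩ := transfer_i hG h16 h17 h18 hFB hM hqM hY hY1 hYM hL hne hNY hpβ hP hP1 hPM
        hPL hAL (isPGroup_of_elementary hA)
      exact BG9.not_pRankLE_of_le hl (Cfsg.Agent.Lib.Helper2.ea_cj hA l) (by rw [card_cj]; exact hc) hr
    have hτ : p ∈ Cfsg.tau3 L := ⟨hp.out, hpL, hpL', hrL⟩
    obtain ⟨E₃, hE₃⟩ := Cfsg.Agent.Lib.Helper66.exists_isPiHallOf (Cfsg.tau3 L) E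
      (isSolvable_of_le hE.1 (solvable_of_ne_top hG hL.1))
    have h3 := ((h15 L hL E hE).2.2 E₃ hE₃).2.1
    have hpE : p ∣ Nat.card E := by
      have h4 := card_eq_card_mul_relIndex (BG12.sigmaCore_le L)
      rw [← BG12.card_compl hE] at h4
      have h5 : p ∣ Nat.card (Cfsg.sigmaCore L) * Nat.card E :=
        h4 ▸ (hpL'.trans (card_dvd_of_le (commutator_le_self L)))
      rcases (Nat.Prime.dvd_mul hp.out).mp h5 with h | h
      · exact absurd ((BG12.sigmaCore_hall hG hL).2.1 p hp.out h) hpL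
      · exact h
    have hpE₃ : p ∣ Nat.card E₃ := by
      have h4 := card_eq_card_mul_relIndex hE₃.1
      rw [h4] at hpE
      rcases (Nat.Prime.dvd_mul hp.out).mp hpE with h | h
      · exact h
      · exact absurd h (hE₃.2.2 p hp.out hτ)
    exact (hpE₃.trans (card_dvd_of_le h3)).trans (card_dvd_of_le (commutator_mono hEM hEM))

theorem exists_card_prime_le [Finite G] {q : ℕ} [hq : Fact q.Prime] {Y : Subgroup G}
    (hY : IsPGroup q Y) (hY1 : Y ≠ ⊥) : ∃ Y₁ : Subgroup G, Y₁ ≤ Y ∧ Nat.card Y₁ = q := by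
  obtain ⟨y, hy⟩ := exists_prime_orderOf_dvd_card' (G := ↥Y) q (dvd_card_of_isPGroup_ne_bot hY hY1)
  refine ⟨zpowers (y : G), by rw [zpowers_le]; exact y.2, ?_⟩
  rw [Nat.card_zpowers, Subgroup.orderOf_coe, hy]

theorem normalizer_le_of_uniq [Finite G] (hG : Cfsg.IsMinSimpleOddOrder G) {H X K : Subgroup G}
    (hH : IsCoatom H) (hX1 : X ≠ ⊥) (hXH : X ≤ H)
    (hKX : K ≤ normalizer (X : Set G))
    (hu : ∀ L : Subgroup G, IsCoatom L → K ≤ L → L = H) : normalizer (X : Set G) ≤ H := by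
  have hXtop : X ≠ ⊤ := fun h => hH.1 (top_le_iff.mp (h ▸ hXH))
  obtain ⟨L, hL, hNL⟩ := BG9.exists_coatom_ge (normalizer_ne_top hG hX1 hXtop)
  rw [← hu L hL (hKX.trans hNL)]
  exact hNL

/-- case `r ∈ τ₂(H)`. -/
theorem case_r_tau2 [Finite G] (hG : Cfsg.IsMinSimpleOddOrder G) (h18 : T1418 G)
    {H : Subgroup G} (hH : IsCoatom H) {q r : ℕ} [hq : Fact q.Prime] [hr : Fact r.Prime]
    (hqr : q ≠ r) (hqH : q ∉ Cfsg.sigma H) (hτ : r ∈ Cfsg.tau2 H) {R Y : Subgroup G}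
    (hRH : R ≤ H) (hRc : Nat.card R = r) (hY : IsPGroup q Y) (hYH : Y ≤ H)
    (hRY : R ≤ normalizer (Y : Set G)) (hYR : ⁅Y, R⁆ = Y) : Y = ⊥ := by
  have hRp : IsPGroup r R := isPGroup_of_card_prime hRc
  obtain ⟨E, hE, hRYE⟩ := BG12.exists_compl_ge hG hH (sup_le hRH hYH) (by
    intro t ht htd
    rcases prime_dvd_card_sup hRp hY hRY ht htd with rfl | rfl
    · exact hτ.2.1
    · exact hqH)
  obtain ⟨B, hB⟩ := BG12.exists_ea_sq_in_compl hG hH hE hτ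
  obtain ⟨hEB, hXB⟩ := (h18 H hH E hE r hτ B hB).1
  have hRB : R ≤ B := hXB R (le_sup_left.trans hRYE) hRc
  have hYB : Y ≤ normalizer (B : Set G) := (le_sup_right.trans hRYE).trans hEB
  have h1 : ⁅Y, R⁆ ≤ B := by
    rw [commutator_le]
    intro y hy x hx
    rw [commutatorElement_def]
    exact B.mul_mem ((mem_normalizer_iff.mp (hYB hy) x).mp (hRB hx)) (B.inv_mem (hRB hx))
  rw [hYR] at h1
  apply eq_bot_of_isPGroup_of_coprime hY
  apply Nat.Coprime.coprime_dvd_left (card_dvd_of_le h1)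
  rw [hB.2.2]
  exact Nat.Coprime.pow_left 2 ((Nat.coprime_primes hr.out hq.out).mpr hqr.symm)

/-- case `p ∈ σ(H)`, `q ∈ τ₂(H)`. -/
theorem case_q_tau2 [Finite G] (hG : Cfsg.IsMinSimpleOddOrder G) (h16 : BG12.C16 G)
    (h17 : T1417 G) (h18 : T1418 G) {M H : Subgroup G} (hM : IsCoatom M) (hH : IsCoatom H)
    (hne : H ≠ M) {p q : ℕ} [hp : Fact p.Prime] [hq : Fact q.Prime] (hqM : q ∈ Cfsg.sigma M)
    (hτ : q ∈ Cfsg.tau2 H) (hpH : p ∈ Cfsg.sigma H) {P Y : Subgroup G} (hP : IsPGroup p P)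
    (hP1 : P ≠ ⊥) (hPM : P ≤ M) (hPH : P ≤ H) (hY : IsPGroup q Y) (hY1 : Y ≠ ⊥) (hYM : Y ≤ M)
    (hYH : Y ≤ H) (hYP : Y ≤ centralizer (P : Set G)) : False := by
  have hqH : q ∉ Cfsg.sigma H := hτ.2.1
  obtain ⟨Y₁, hY₁Y, hY₁c⟩ := exists_card_prime_le hY hY1
  obtain ⟨E, hE, hYE⟩ := BG12.exists_compl_ge hG hH hYH (by
    intro t ht htd
    rw [BG12.prime_dvd_card_isPGroup hY ht htd]
    exact hqH)
  obtain ⟨B, hB⟩ := BG12.exists_ea_sq_in_compl hG hH hE hτ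
  have h18' := h18 H hH E hE q hτ B hB
  have hY₁B : Y₁ ≤ B := h18'.1.2 Y₁ (hY₁Y.trans hYE) hY₁c
  have hPσ : P ≤ Cfsg.sigmaCore H := BG12.isPGroup_le_sigmaCore hG hH hpH hPH hP
  have hPY₁ : P ≤ centralizer (Y₁ : Set G) :=
    (le_centralizer_iff.mp hYP).trans (centralizer_le hY₁Y)
  have hne' : Cfsg.sigmaCore H ⊓ centralizer (Y₁ : Set G) ≠ ⊥ := fun h =>
    hP1 (le_bot_iff.mp (h ▸ le_inf hPσ hPY₁))
  obtain ⟨hC, hu⟩ := h18'.2.2 Y₁ hY₁B hY₁c hne'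
  have hY₁1 : Y₁ ≠ ⊥ := ne_bot_of_card_prime hY₁c
  have hN : normalizer (Y₁ : Set G) ≤ H :=
    normalizer_le_of_uniq hG hH hY₁1 (hY₁Y.trans hYH) (centralizer_le_normalizer _) hu
  obtain ⟨-, h1, -⟩ := caseE hG h16 h17 h18 hM hqM (hY.to_le hY₁Y) hY₁1 (hY₁Y.trans hYM) hH hne hN hqH
  exact hP1 (le_bot_iff.mp (h1 ▸ le_inf hPσ hPM))

/-- `Y = [Y, R]` centralizes `A` of order `p ^ 2` if `Y`, `R` normalize `A` and centralize
`1 ≠ P ≤ A`. -/
theorem le_centralizer_sq [Finite G] {p : ℕ} [hp : Fact p.Prime] {A P R Y : Subgroup G}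
    (hA : Cfsg.IsElementaryAbelian p A) (hAc : Nat.card A = p ^ 2) (hP1 : P ≠ ⊥) (hPA : P ≤ A)
    (hRA : R ≤ normalizer (A : Set G)) (hYA : Y ≤ normalizer (A : Set G))
    (hRP : R ≤ centralizer (P : Set G)) (hYP : Y ≤ centralizer (P : Set G))
    (hcop : (Nat.card (R ⊔ Y : Subgroup G)).Coprime p) (hYR : ⁅Y, R⁆ = Y) :
    Y ≤ centralizer (A : Set G) := by
  set Γ : Subgroup G := R ⊔ Y with hΓ
  have hΓA : Γ ≤ normalizer (A : Set G) := sup_le hRA hYA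
  have hcop' : (Nat.card Γ).Coprime (Nat.card A) := by rw [hAc]; exact Nat.Coprime.pow_right 2 hcop
  have hAp : IsPGroup p A := isPGroup_of_elementary hA
  have hsolv : Group.IsSolvable Γ ∨ Group.IsSolvable A := by
    right
    have := hAp.isNilpotent
    infer_instance
  set U : Subgroup G := ⁅A, Γ⁆ with hU
  have hUA : U ≤ A := commutator_le_of_le_normalizer hΓA
  have h1 : U ⊔ (A ⊓ centralizer (Γ : Set G)) = A := commutator_sup_centralizer hΓA hcop' hsolv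
  have h2 : U ⊓ centralizer (Γ : Set G) = ⊥ :=
    Cfsg.Agent.Lib.Helper69.commutator_inf_centralizer_eq_bot A Γ hA.1 hΓA hcop'.symm
  have hPΓ : P ≤ centralizer (Γ : Set G) :=
    le_centralizer_iff.mp (sup_le hRP hYP)
  have hUc : IsCyclic U := by
    obtain ⟨k, hk, hkU⟩ := (Nat.dvd_prime_pow hp.out).mp (hAc ▸ card_dvd_of_le hUA)
    interval_cases k
    · have : U = ⊥ := by
        rw [← card_eq_one]
        simpa using hkU
      rw [this]
      infer_instance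
    · exact isCyclic_of_prime_card (p := p) (by simpa using hkU)
    · exfalso
      have hUeq : U = A := eq_of_le_of_card_ge hUA (by rw [hkU, hAc])
      exact hP1 (le_bot_iff.mp (h2 ▸ le_inf (hUeq ▸ hPA) hPΓ))
  have hΓU : Γ ≤ normalizer (U : Set G) := le_normalizer_commutator hΓA le_normalizer
  have h3 : ⁅Γ, Γ⁆ ≤ centralizer (U : Set G) := comm_le_centralizer_of_isCyclic hUc hΓU
  have hYU : Y ≤ centralizer (U : Set G) := by
    calc Y = ⁅Y, R⁆ := hYR.symm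
      _ ≤ ⁅Γ, Γ⁆ := commutator_mono le_sup_right le_sup_left
      _ ≤ _ := h3
  rw [le_centralizer_iff, ← h1]
  exact sup_le (le_centralizer_iff.mp hYU)
    (inf_le_right.trans (centralizer_le (le_sup_right : Y ≤ Γ)))

/-- case `p ∈ τ₂(H)`. -/
theorem case_p_tau2 [Finite G] (hG : Cfsg.IsMinSimpleOddOrder G) (h16 : BG12.C16 G)
    (h17 : T1417 G) (h18 : T1418 G) (hFB : FB G) {M H : Subgroup G} (hM : IsCoatom M)
    (hH : IsCoatom H) {p q r : ℕ} [hp : Fact p.Prime] [hq : Fact q.Prime] [hr : Fact r.Prime]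
    (hqp : q ≠ p) (hrp : r ≠ p) (hqM : q ∈ Cfsg.sigma M) (hrM : Cfsg.PRankLE p 1 M)
    (hτ : p ∈ Cfsg.tau2 H) (hqH : q ∉ Cfsg.sigma H) (hrH : r ∉ Cfsg.sigma H)
    {P R Y : Subgroup G} (hPc : Nat.card P = p) (hPM : P ≤ M) (hPH : P ≤ H)
    (hRc : Nat.card R = r) (hRH : R ≤ H) (hRP : R ≤ centralizer (P : Set G))
    (hY : IsPGroup q Y) (hY1 : Y ≠ ⊥) (hYM : Y ≤ M) (hYH : Y ≤ H)
    (hYP : Y ≤ centralizer (P : Set G)) (hRY : R ≤ normalizer (Y : Set G)) (hYR : ⁅Y, R⁆ = Y) :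
    False := by
  have hPp : IsPGroup p P := isPGroup_of_card_prime hPc
  have hRp : IsPGroup r R := isPGroup_of_card_prime hRc
  have hP1 : P ≠ ⊥ := ne_bot_of_card_prime hPc
  have hPR : P ≤ normalizer (R : Set G) :=
    (le_centralizer_iff.mp hRP).trans (centralizer_le_normalizer _)
  have hPY : P ≤ centralizer (Y : Set G) := le_centralizer_iff.mp hYP
  have hprimes : ∀ t : ℕ, t.Prime → t ∣ Nat.card (R ⊔ Y : Subgroup G) → t = r ∨ t = q :=
    fun t ht htd => prime_dvd_card_sup hRp hY hRY ht htd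
  obtain ⟨E, hE, hle⟩ := BG12.exists_compl_ge hG hH (sup_le hPH (sup_le hRH hYH)) (by
    intro t ht htd
    rcases prime_dvd_card_sup' (le_normalizer_sup hPR (hPY.trans (centralizer_le_normalizer _)))
      ht htd with h | h
    · rw [BG12.prime_dvd_card_isPGroup hPp ht h]
      exact hτ.2.1
    · rcases hprimes t ht h with rfl | rfl
      · exact hrH
      · exact hqH)
  have hPE : P ≤ E := le_sup_left.trans hle
  have hRE : R ≤ E := (le_sup_left.trans le_sup_right).trans hle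
  have hYE : Y ≤ E := (le_sup_right.trans le_sup_right).trans hle
  obtain ⟨A, hA⟩ := BG12.exists_ea_sq_in_compl hG hH hE hτ
  obtain ⟨hEA, hXA⟩ := (h18 H hH E hE p hτ A hA).1
  have hPA : P ≤ A := hXA P hPE hPc
  have hcop : (Nat.card (R ⊔ Y : Subgroup G)).Coprime p := by
    apply Nat.Coprime.symm
    rw [Nat.Prime.coprime_iff_not_dvd hp.out]
    intro h
    rcases hprimes p hp.out h with h | h
    · exact hrp h.symm
    · exact hqp h.symm
  have hYA : Y ≤ centralizer (A : Set G) := le_centralizer_sq hA.2.1 hA.2.2 hP1 hPA (hRE.trans hEA)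
    (hYE.trans hEA) hRP hYP hcop hYR
  have hnot : ∀ l : G, ¬ cj l A ≤ M := fun l hl =>
    BG9.not_pRankLE_of_le hl (Cfsg.Agent.Lib.Helper2.ea_cj hA.2.1 l)
      (by rw [card_cj, hA.2.2, pow_one]; exact lt_sq hp.out) hrM
  have hYtop : Y ≠ ⊤ := fun h => hM.1 (top_le_iff.mp (h ▸ hYM))
  obtain ⟨L, hL, hNY⟩ := BG9.exists_coatom_ge (normalizer_ne_top hG hY1 hYtop)
  have hCY : centralizer (Y : Set G) ≤ L := (centralizer_le_normalizer _).trans hNY
  have hAL : A ≤ L := (le_centralizer_iff.mp hYA).trans hCY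
  have hne : L ≠ M := by
    rintro rfl
    exact hnot 1 (by rw [cj_one]; exact hAL)
  have hpβ : p ∉ Cfsg.beta L := fun h =>
    (Cfsg.Agent.S1408.result hG H hH p hτ.2.1 hτ.2.2.1 hτ.2.2.2).1 h.2
  obtain ⟨l, hl⟩ := transfer_i hG h16 h17 h18 hFB hM hqM hY hY1 hYM hL hne hNY hpβ hPp hP1 hPM
    (hPY.trans hCY) hAL (isPGroup_of_elementary hA.2.1)
  exact hnot l hl

/-- if `C_{H_α}(X)` is not of rank at most one, `N(X) ≤ H`. -/
theorem rankLE_one_of_not_normalizer_le [Finite G] (hG : Cfsg.IsMinSimpleOddOrder G)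
    {H : Subgroup G} (hH : IsCoatom H) {X : Subgroup G} (hX1 : X ≠ ⊥) (hXH : X ≤ H)
    (hXα : ∀ t : ℕ, t.Prime → t ∣ Nat.card X → t ∉ Cfsg.alpha H)
    (hN : ¬ normalizer (X : Set G) ≤ H) :
    Cfsg.RankLE 1 ↥(Cfsg.alphaCore H ⊓ centralizer (X : Set G)) := by
  by_contra hcon
  have hu := Cfsg.Agent.S1406.result hG H hH X hXH hXα hcon
  apply hN
  apply normalizer_le_of_uniq hG hH hX1 hXH
    (inf_le_right.trans (centralizer_le_normalizer _) : H ⊓ centralizer (X : Set G) ≤ _)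
  intro L hL hKL
  exact BG9.uniq_eq hu hL hKL hH inf_le_left

/-- case `p ∈ α(H)`: B-G 12.18(a). -/
theorem case_p_alpha [Finite G] (hG : Cfsg.IsMinSimpleOddOrder G) (h17 : T1417 G)
    {H : Subgroup G} (hH : IsCoatom H) {p q r : ℕ} [hp : Fact p.Prime] [hq : Fact q.Prime]
    [hr : Fact r.Prime] (hqp : q ≠ p) (hrp : r ≠ p) (hqr : q ≠ r)
    (hpα : p ∈ Cfsg.alpha H) (hqH : q ∉ Cfsg.sigma H) (hrH : r ∉ Cfsg.sigma H)
    {P R Y : Subgroup G} (hPc : Nat.card P = p) (hPH : P ≤ H)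
    (hRc : Nat.card R = r) (hRH : R ≤ H) (hRP : R ≤ centralizer (P : Set G))
    (hY : IsPGroup q Y) (hY1 : Y ≠ ⊥) (hYH : Y ≤ H)
    (hYP : Y ≤ centralizer (P : Set G)) (hRY : R ≤ normalizer (Y : Set G)) (hYR : ⁅Y, R⁆ = Y)
    (hNR : ¬ normalizer (R : Set G) ≤ H) (hNY : ¬ normalizer (Y : Set G) ≤ H) : False := by
  have hU := BG12.ut hG
  have hPp : IsPGroup p P := isPGroup_of_card_prime hPc
  have hRp : IsPGroup r R := isPGroup_of_card_prime hRc
  have hP1 : P ≠ ⊥ := ne_bot_of_card_prime hPc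
  have hR1 : R ≠ ⊥ := ne_bot_of_card_prime hRc
  have hp2 : p ≠ 2 := BG12.ne_two_of_isPGroup hG hPp hP1
  have hασ : ∀ t : ℕ, t ∈ Cfsg.alpha H → t ∈ Cfsg.sigma H := fun t ht =>
    Cfsg.Agent.Lib.Helper68.mem_sigma_of_mem_alpha hG hU hH ht
  set Hα := Cfsg.alphaCore H with hHα
  have h05 := (Cfsg.Agent.S1405.result hG H hH).1
  have hPα : P ≤ Hα := Cfsg.Agent.Lib.Helper14.BG12.isPGroup_le_alphaCore hG hH hpα hPH hPp
  have hHn : H ≤ normalizer (Hα : Set G) := le_normalizer_map_subtype (Cfsg.piCore_normal _ _)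
  set Γ : Subgroup G := R ⊔ Y with hΓ
  have hΓH : Γ ≤ H := sup_le hRH hYH
  have hprimes : ∀ t : ℕ, t.Prime → t ∣ Nat.card Γ → t ∉ Cfsg.sigma H := by
    intro t ht htd
    rcases prime_dvd_card_sup hRp hY hRY ht htd with rfl | rfl
    · exact hrH
    · exact hqH
  have hcop : (Nat.card Γ).Coprime (Nat.card Hα) :=
    Nat.coprime_of_dvd (fun t ht h1 h2 => hprimes t ht h1 (hασ t (h05.2.1 t ht h2)))
  have hsolv : Group.IsSolvable Γ ∨ Group.IsSolvable Hα :=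
    Or.inl (isSolvable_of_le hΓH (solvable_of_ne_top hG hH.1))
  have hΓP : Γ ≤ normalizer (P : Set G) := (sup_le hRP hYP).trans (centralizer_le_normalizer _)
  obtain ⟨W, hW, hPW, hΓW⟩ := exists_invariant_isSylowIn_ge (hΓH.trans hHn) hcop hsolv p hPα hPp hΓP
  have hWn : ¬ IsCyclic W := by
    intro hWc
    obtain ⟨E₀, hE₀H, hE₀, hc⟩ := exists_elementary_of_not_pRankLE hpα.2
    have hE₀p := isPGroup_of_elementary hE₀
    have hE₀α : E₀ ≤ Hα := Cfsg.Agent.Lib.Helper14.BG12.isPGroup_le_alphaCore hG hH hpα hE₀H hE₀p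
    obtain ⟨W', hW', hE₀W'⟩ := exists_isSylowIn_ge hE₀α hE₀p
    obtain ⟨k, -, rfl⟩ := hW.conj hW'
    exact not_isCyclic_of_ea hE₀ (lt_trans (lt_sq hp.out) hc) hE₀W' (isCyclic_cj hWc k)
  have hrkR := rankLE_one_of_not_normalizer_le hG hH hR1 hRH (by
    intro t ht htd hα
    rw [BG12.prime_dvd_card_isPGroup hRp ht htd] at hα
    exact hrH (hασ r hα)) hNR
  have hrkY := rankLE_one_of_not_normalizer_le hG hH hY1 hYH (by
    intro t ht htd hα
    rw [BG12.prime_dvd_card_isPGroup hY ht htd] at hα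
    exact hqH (hασ q hα)) hNY
  have hcR : IsCyclic ↥(W ⊓ centralizer (R : Set G)) :=
    isCyclic_of_pRankLE_one hp2 (hrkR p hp.out) (inf_le_inf_right _ hW.le)
      (hW.isPGroup.to_le inf_le_left)
  have hcY : IsCyclic ↥(W ⊓ centralizer (Y : Set G)) :=
    isCyclic_of_pRankLE_one hp2 (hrkY p hp.out) (inf_le_inf_right _ hW.le)
      (hW.isPGroup.to_le inf_le_left)
  have hYc : IsMulCommutative Y := ⟨⟨fun a b => Subtype.ext
    (BG12.comm_of_isPGroup_sigma' hG h17 hH hqH hYH hY a.2 b.2)⟩⟩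
  have hfpf : Y ⊓ centralizer (R : Set G) = ⊥ := by
    have := Cfsg.Agent.Lib.Helper69.commutator_inf_centralizer_eq_bot Y R hYc hRY
      (by rw [hRc]; exact coprime_card_of_isPGroup hqr hY)
    rwa [hYR] at this
  have hF := (Cfsg.Agent.Lib.Helper29.BG139.lemmaF hr.out hq.out hp.out hqr.symm hrp hqp hRc hY
    hW.isPGroup hRY (le_sup_right.trans hΓW) (le_sup_left.trans hΓW) hfpf hcR hcY hWn).2
  exact hP1 (le_bot_iff.mp (hF ▸ le_inf (le_inf hPW (le_centralizer_iff.mp hYP))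
    (le_centralizer_iff.mp hRP)))

/-- case `p ∈ σ(H) \ α(H)`, `q ∈ τ₃(H)`. -/
theorem case_p_not_alpha [Finite G] (hG : Cfsg.IsMinSimpleOddOrder G) (h15 : T1415 G)
    (h16 : BG12.C16 G) (h17 : T1417 G) (h18 : T1418 G) (hFB : FB G) {M H : Subgroup G}
    (hM : IsCoatom M) (hH : IsCoatom H) {p q r : ℕ} [hp : Fact p.Prime] [hq : Fact q.Prime]
    [hr : Fact r.Prime] (hqp : q ≠ p) (hqM : q ∈ Cfsg.sigma M) (hpM : p ∈ Cfsg.tau1 M)
    (hpσ : p ∈ Cfsg.sigma H) (hpα : p ∉ Cfsg.alpha H) (hτ : q ∈ Cfsg.tau3 H)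
    (hrH : r ∉ Cfsg.sigma H)
    {P R Y : Subgroup G} (hPc : Nat.card P = p) (hPM : P ≤ M) (hPH : P ≤ H)
    (hRc : Nat.card R = r) (hRH : R ≤ H)
    (hY : IsPGroup q Y) (hY1 : Y ≠ ⊥) (hYM : Y ≤ M) (hYH : Y ≤ H)
    (hYP : Y ≤ centralizer (P : Set G)) (hRY : R ≤ normalizer (Y : Set G)) (hYR : ⁅Y, R⁆ = Y) :
    False := by
  have hU := BG12.ut hG
  have hqH : q ∉ Cfsg.sigma H := hτ.2.1
  have hPp : IsPGroup p P := isPGroup_of_card_prime hPc
  have hRp : IsPGroup r R := isPGroup_of_card_prime hRc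
  have hP1 : P ≠ ⊥ := ne_bot_of_card_prime hPc
  have hpβ : p ∉ Cfsg.beta H := fun h => hpα h.1
  have hsolH := solvable_of_ne_top hG hH.1
  obtain ⟨E, hE, hRYE⟩ := BG12.exists_compl_ge hG hH (sup_le hRH hYH) (by
    intro t ht htd
    rcases prime_dvd_card_sup hRp hY hRY ht htd with rfl | rfl
    · exact hrH
    · exact hqH)
  have hYE : Y ≤ E := le_sup_right.trans hRYE
  obtain ⟨E₃, hE₃, -, hYE₃⟩ := Cfsg.Agent.Lib.Helper66.exists_invariant_isPiHallOf_ge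
    (π := Cfsg.tau3 H) (A := ⊥) (G := E) (U := Y) bot_le (by simp)
    (isSolvable_of_le hE.1 hsolH) hYE bot_le (by
      intro t ht htd
      rw [BG12.prime_dvd_card_isPGroup hY ht htd]
      exact hτ)
  obtain ⟨hE₃c, -, hEE₃⟩ := (h15 H hH E hE).2.2 E₃ hE₃
  have hEY : E ≤ normalizer (Y : Set G) :=
    hEE₃.trans (BG12.normalizer_le_normalizer_of_isCyclic hE₃c hYE₃)
  set Hs := Cfsg.sigmaCore H with hHs
  have hcop : (Nat.card E).Coprime (Nat.card Hs) := by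
    rw [BG12.card_compl hE]
    exact (Cfsg.Agent.Lib.Helper31.sigmaCore_coprime hG hH).symm
  obtain ⟨S, hS, hES⟩ := exists_invariant_isSylowIn (hE.1.trans (BG12.le_normalizer_sigmaCore H))
    hcop (Or.inl (isSolvable_of_le hE.1 hsolH)) p
  have hPs : P ≤ Hs := BG12.isPGroup_le_sigmaCore hG hH hpσ hPH hPp
  have hS1 : S ≠ ⊥ := ne_bot_of_isSylowIn_of_dvd hS
    ((dvd_card_of_isPGroup_ne_bot hPp hP1).trans (card_dvd_of_le hPs))
  have hσ' := sigmaCore_le_commutator hG hU hH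
  have hYH' : Y ≤ ⁅H, H⁆ := by
    rw [← hYR]
    exact commutator_mono hYH hRH
  have hYS : Y ≤ centralizer (S : Set G) := lemmaK hG hH hpβ hS.isPGroup hS1 (hS.le.trans hσ') hYH'
    (coprime_card_of_isPGroup hqp hY) (hYE.trans hES)
  have hne0 := sylow_commutator_ne_bot hG hH hE hpσ hpβ hS
  have hYtop : Y ≠ ⊤ := fun h => hM.1 (top_le_iff.mp (h ▸ hYM))
  obtain ⟨L, hL, hNY⟩ := BG9.exists_coatom_ge (normalizer_ne_top hG hY1 hYtop)
  have hCY : centralizer (Y : Set G) ≤ L := (centralizer_le_normalizer _).trans hNY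
  have hSL : S ≤ L := (le_centralizer_iff.mp hYS).trans hCY
  have hEL : E ≤ L := hEY.trans hNY
  have hpL' : p ∣ Nat.card ↥⁅L, L⁆ :=
    (dvd_card_of_isPGroup_ne_bot (hS.isPGroup.to_le (commutator_le_of_le_normalizer hES)) hne0).trans
      (card_dvd_of_le (commutator_mono hSL hEL))
  have hne : L ≠ M := by
    rintro rfl
    exact hpM.2.2.2.1 hpL'
  have hSH : IsSylowIn p S H := by
    refine ⟨hS.le.trans (BG12.sigmaCore_le H), hS.isPGroup, ?_⟩
    rw [← relIndex_mul_relIndex S Hs H hS.le (BG12.sigmaCore_le H)]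
    intro h
    rcases (Nat.Prime.dvd_mul hp.out).mp h with h | h
    · exact hS.not_dvd h
    · exact (BG12.sigmaCore_hall hG hH).2.2 p hp.out hpσ h
  have hStop : IsSylowIn p S ⊤ := isSylowIn_top_of_normalizer_le hSH
    (Cfsg.Agent.Lib.Helper68.normalizer_le_of_mem_sigma hpσ hSH)
  have hpβL : p ∉ Cfsg.beta L := by
    intro h
    obtain ⟨E₀, -, hE₀, hc⟩ := exists_elementary_of_not_pRankLE h.1.2
    obtain ⟨g, hg⟩ := Cfsg.Agent.Lib.Helper68.exists_le_cj_of_isPGroup hStop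
      (isPGroup_of_elementary hE₀)
    have h1 : cj g⁻¹ E₀ ≤ H := by
      have := cj_mono g⁻¹ hg
      rw [cj_inv_cj] at this
      exact this.trans hSH.le
    exact hpα ⟨hp.out, BG9.not_pRankLE_of_le h1 (Cfsg.Agent.Lib.Helper2.ea_cj hE₀ g⁻¹)
      (by rw [card_cj]; exact hc)⟩
  exact hpM.2.2.2.1 (transfer_ii hG h15 h16 h17 h18 hFB hM hqM hY hY1 hYM hL hne hNY hpβL hPp hP1
    hPM ((le_centralizer_iff.mp hYP).trans hCY) hpM.2.2.2.2 hpL')

/-- CORE of B-G Theorem 13.3 (statement S1428). -/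
theorem core1428 [Finite G] (hG : Cfsg.IsMinSimpleOddOrder G) (h15 : T1415 G)
    (h16 : BG12.C16 G) (h17 : T1417 G) (h18 : T1418 G) (hFB : FB G)
    (M : Subgroup G) (hM : IsCoatom M) (p r q : ℕ) (hpM : p ∈ Cfsg.tau1 M) (hr : r.Prime)
    (hrp : r ≠ p) (hrM : r ∉ Cfsg.sigma M) (hqM : q ∈ Cfsg.sigma M) (P R Y H : Subgroup G)
    (hPM : P ≤ M) (hPc : Nat.card P = p) (_hRM : R ≤ M) (hRP : R ≤ centralizer (P : Set G))
    (hRc : Nat.card R = r) (hY : IsPGroup q Y) (hY1 : Y ≠ ⊥) (hYM : Y ≤ M)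
    (hYP : Y ≤ centralizer (P : Set G)) (hRY : R ≤ normalizer (Y : Set G)) (hYR : ⁅Y, R⁆ = Y)
    (hH : IsCoatom H) (hNP : normalizer (P : Set G) ≤ H) (hqH : q ∉ Cfsg.sigma H) : False := by
  haveI hpf : Fact p.Prime := ⟨hpM.1⟩
  haveI hrf : Fact r.Prime := ⟨hr⟩
  haveI hqf : Fact q.Prime := ⟨hqM.1⟩
  have hU := BG12.ut hG
  have hCP : centralizer (P : Set G) ≤ H := (centralizer_le_normalizer _).trans hNP
  have hPH : P ≤ H := le_normalizer.trans hNP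
  have hRH : R ≤ H := hRP.trans hCP
  have hYH : Y ≤ H := hYP.trans hCP
  have hPp : IsPGroup p P := isPGroup_of_card_prime hPc
  have hRp : IsPGroup r R := isPGroup_of_card_prime hRc
  have hP1 : P ≠ ⊥ := ne_bot_of_card_prime hPc
  have hR1 : R ≠ ⊥ := ne_bot_of_card_prime hRc
  have hqr : q ≠ r := fun h => hrM (h ▸ hqM)
  have hqp : q ≠ p := fun h => hpM.2.1 (h ▸ hqM)
  have hpH : p ∈ Cfsg.sigma H ∨ p ∈ Cfsg.tau2 H := by
    by_cases h : p ∈ Cfsg.sigma H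
    · exact Or.inl h
    · have h1 := (Cfsg.Agent.S1409.result hG H hH p h P hPc hNP).1
      exact Or.inr ⟨hpf.out, h, h1.1, h1.2⟩
  have hne : H ≠ M := fun h => not_conj_of_tau1 hpM hpH 1 (by rw [cj_one]; exact h)
  have hYH' : Y ≤ ⁅H, H⁆ := by
    rw [← hYR]
    exact commutator_mono hYH hRH
  have hRq : (Nat.card R).Coprime q := coprime_card_of_isPGroup hqr.symm hRp
  have key : ¬ R ≤ centralizer (Y : Set G) := by
    intro h
    apply hY1
    rw [← hYR]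
    exact commutator_eq_bot_iff_le_centralizer.mpr (le_centralizer_iff.mp h)
  have hqβ : q ∉ Cfsg.beta H := fun h =>
    hqH (Cfsg.Agent.Lib.Helper68.mem_sigma_of_mem_alpha hG hU hH h.1)
  have hrs : r ∉ Cfsg.sigma H := by
    intro hrs
    exact key (lemmaK hG hH hqβ hY hY1 hYH'
      ((BG12.isPGroup_le_sigmaCore hG hH hrs hRH hRp).trans (sigmaCore_le_commutator hG hU hH))
      hRq hRY)
  have hrdH : r ∣ Nat.card H := (dvd_card_of_isPGroup_ne_bot hRp hR1).trans (card_dvd_of_le hRH)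
  have hqdH' : q ∣ Nat.card ↥⁅H, H⁆ :=
    (dvd_card_of_isPGroup_ne_bot hY hY1).trans (card_dvd_of_le hYH')
  have hqdH : q ∣ Nat.card H := hqdH'.trans (card_dvd_of_le (commutator_le_self H))
  have hτr : r ∈ Cfsg.tau1 H := by
    rcases tau_cases hG hH hr hrdH hrs with h | h | h
    · exact h
    · exact absurd (case_r_tau2 hG h18 hH hqr hqH h hRH hRc hY hYH hRY hYR) hY1
    · exact absurd (lemmaK hG hH hqβ hY hY1 hYH' (le_commutator_of_tau3 hG h hRH hRc) hRq hRY) key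
  have hNR : ¬ normalizer (R : Set G) ≤ H := fun h =>
    (Cfsg.Agent.S1409.result hG H hH r hrs R hRc h).1.2 hτr.2.2.2.2
  rcases hpH with hpσ | hpτ
  · rcases tau_cases hG hH hqf.out hqdH hqH with h | h | h
    · exact h.2.2.2.1 hqdH'
    · exact case_q_tau2 hG h16 h17 h18 hM hH hne hqM h hpσ hPp hP1 hPM hPH hY hY1 hYM hYH hYP
    · have hNY : ¬ normalizer (Y : Set G) ≤ H := fun hN =>
        (caseE hG h16 h17 h18 hM hqM hY hY1 hYM hH hne hN hqH).1.2.2.2 h.2.2.2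
      by_cases hpα : p ∈ Cfsg.alpha H
      · exact case_p_alpha hG h17 hH hqp hrp hqr hpα hqH hrs hPc hPH hRc hRH hRP hY hY1 hYH hYP hRY
          hYR hNR hNY
      · exact case_p_not_alpha hG h15 h16 h17 h18 hFB hM hH hqp hqM hpM hpσ hpα h hrs hPc hPM hPH
          hRc hRH hY hY1 hYM hYH hYP hRY hYR
  · exact case_p_tau2 hG h16 h17 h18 hFB hM hH hqp hrp hqM hpM.2.2.2.2 hpτ hqH hrs hPc hPM hPH hRc
      hRH hRP hY hY1 hYM hYH hYP hRY hYR

end Cfsg.Agent.Lib.Helper58.BG13
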