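import Mathlib
import Cfsg.Agent.Lib.Helper58.NormalComplement

set_option autoImplicit false

namespace Cfsg.Agent.Lib.Helper58

theorem conj_pow_eq_pow_pow' {G : Type*} [Group G] {g x : G} {k : ℕ} (h : g * x * g⁻¹ = x ^ k)
    (j : ℕ) : g ^ j * x * (g ^ j)⁻¹ = x ^ (k ^ j) := by
  induction j with
  | zero => simp
  | succ j ih =>
    have : g ^ (j + 1) * x * (g ^ (j + 1))⁻¹ = g * (g ^ j * x * (g ^ j)⁻¹) * g⁻¹ := by
      rw [pow_succ']; simp only [mul_inv_rev]; group
    rw [this, ih, ← conj_pow, h, ← pow_mul, pow_succ']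

/-- `P = ⟨u⟩` a cyclic Sylow `p`-subgroup, `n u n⁻¹ = u ^ k` with `k ≡ 1 mod p`: then `n` centralizes `u`. -/
theorem commute_of_conj_eq_pow {G : Type*} [Group G] [Finite G] {p : ℕ} [Fact p.Prime] (P : Sylow p G)
    (u : G) (hu : Subgroup.zpowers u = (P : Subgroup G)) (n : G) (k : ℕ)
    (hn : n * u * n⁻¹ = u ^ k) (hk : (p : ℤ) ∣ (k : ℤ) - 1) : Commute n u := by
  have hp : p.Prime := Fact.out
  obtain ⟨e, he⟩ := P.2.exists_card_eq
  have hord : orderOf u = p ^ e := by rw [← Nat.card_zpowers, hu]; exact he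
  have h1 : n ^ (p ^ e) * u * (n ^ (p ^ e))⁻¹ = u := by
    rw [conj_pow_eq_pow_pow' hn]
    have h2 : ((p : ℤ) ^ (e + 1)) ∣ (k : ℤ) ^ (p ^ e) - 1 := by
      have := dvd_sub_pow_of_dvd_sub hk e
      simpa using this
    have h3 : ((orderOf u : ℕ) : ℤ) ∣ ((k ^ (p ^ e) : ℕ) : ℤ) - 1 := by
      rw [hord]
      push_cast
      exact dvd_trans (pow_dvd_pow _ (Nat.le_succ e)) h2
    have h4 := orderOf_dvd_sub_iff_zpow_eq_zpow.mp h3
    rwa [zpow_natCast, zpow_one] at h4
  have hnN : n ∈ Subgroup.normalizer ((P : Subgroup G) : Set G) := by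
    rw [Subgroup.mem_normalizer_iff_map_conj_eq]
    have h1 : (Subgroup.zpowers u).map (MulAut.conj n : G ≃* G).toMonoidHom
        = Subgroup.zpowers (n * u * n⁻¹) := by
      rw [MonoidHom.map_zpowers]; rfl
    change (P : Subgroup G).map (MulAut.conj n : G ≃* G).toMonoidHom = _
    rw [← hu, h1]
    apply Subgroup.eq_of_le_of_card_ge
    · rw [Subgroup.zpowers_le, hn]; exact Subgroup.pow_mem _ (Subgroup.mem_zpowers u) _
    · rw [Nat.card_zpowers, Nat.card_zpowers]
      have := orderOf_injective (MulAut.conj n).toMonoidHom (MulAut.conj n).injective u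
      exact le_of_eq (by simpa using this.symm)
  set N := Subgroup.normalizer ((P : Subgroup G) : Set G) with hN
  have h2 : n ^ ((P : Subgroup G).relIndex N) ∈ (P : Subgroup G) := by
    have := Subgroup.pow_index_mem ((P : Subgroup G).subgroupOf N) ⟨n, hnN⟩
    exact this
  have h3 : ((P : Subgroup G).relIndex N).Coprime p := by
    have h4 : (P : Subgroup G).relIndex N ∣ (P : Subgroup G).index :=
      Subgroup.relIndex_dvd_index_of_le Subgroup.le_normalizer
    exact Nat.Coprime.coprime_dvd_left h4 ((Nat.Prime.coprime_iff_not_dvd hp).mpr P.not_dvd_index).symm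
  have h5 : n ^ ((P : Subgroup G).relIndex N) ∈ Subgroup.centralizer ({u} : Set G) := by
    have h2' : n ^ ((P : Subgroup G).relIndex N) ∈ Subgroup.zpowers u := by rw [hu]; exact h2
    obtain ⟨i, hi⟩ := Subgroup.mem_zpowers_iff.mp h2'
    rw [Subgroup.mem_centralizer_singleton_iff, ← hi]
    exact ((Commute.refl u).zpow_left i).eq
  have h6 : n ^ (p ^ e) ∈ Subgroup.centralizer ({u} : Set G) := by
    rw [Subgroup.mem_centralizer_singleton_iff]
    calc n ^ (p ^ e) * u = n ^ (p ^ e) * u * (n ^ (p ^ e))⁻¹ * n ^ (p ^ e) := by group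
      _ = u * n ^ (p ^ e) := by rw [h1]
  have hcop : Nat.Coprime ((P : Subgroup G).relIndex N) (p ^ e) := Nat.Coprime.pow_right e h3
  obtain ⟨a, b, hab⟩ := Nat.isCoprime_iff_coprime.mpr hcop
  have h7 : n = (n ^ ((P : Subgroup G).relIndex N)) ^ a * (n ^ (p ^ e)) ^ b := by
    rw [← zpow_natCast, ← zpow_natCast, ← zpow_mul, ← zpow_mul, ← zpow_add,
      mul_comm (((P : Subgroup G).relIndex N : ℕ) : ℤ), mul_comm ((p ^ e : ℕ) : ℤ), hab, zpow_one]
  have h8 : n ∈ Subgroup.centralizer ({u} : Set G) := by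
    rw [h7]
    exact Subgroup.mul_mem _ (Subgroup.zpow_mem _ h5 _) (Subgroup.zpow_mem _ h6 _)
  rw [Subgroup.mem_centralizer_singleton_iff] at h8
  exact h8

/-- Burnside's normal `p`-complement theorem for a subgroup `X ≥ P` of `G`, phrased in `G`. -/
theorem exists_rel_normal_complement {G : Type*} [Group G] [Finite G] {p : ℕ} [Fact p.Prime]
    (P : Sylow p G) (X : Subgroup G) (hPX : (P : Subgroup G) ≤ X)
    (h : ∀ n ∈ X, n ∈ Subgroup.normalizer ((P : Subgroup G) : Set G) →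
      n ∈ Subgroup.centralizer ((P : Subgroup G) : Set G)) :
    ∃ L : Subgroup G, L ≤ X ∧ (∀ x ∈ X, ∀ l ∈ L, x * l * x⁻¹ ∈ L) ∧ (Nat.card L).Coprime p ∧
      L.relIndex X = Nat.card P ∧ (∀ x ∈ X, ∃ l ∈ L, ∃ v ∈ (P : Subgroup G), x = l * v) ∧
      (∀ y ∈ X, (orderOf y).Coprime p → y ∈ L) := by
  have hp : p.Prime := Fact.out
  set P' : Sylow p X := P.subtype hPX with hP'
  have hcoe : (P' : Subgroup X) = (P : Subgroup G).subgroupOf X := rfl
  have hNC : Subgroup.normalizer ((P' : Subgroup X) : Set X) ≤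
      Subgroup.centralizer ((P' : Subgroup X) : Set X) := by
    intro n hn
    have hn' : (n : G) ∈ Subgroup.normalizer ((P : Subgroup G) : Set G) := by
      rw [Subgroup.mem_normalizer_iff] at hn ⊢
      intro g
      constructor
      · intro hg
        exact (hn ⟨g, hPX hg⟩).mp hg
      · intro hg
        have hgX : g ∈ X := by
          have h1 := X.mul_mem (X.mul_mem (X.inv_mem n.2) (hPX hg)) n.2
          simpa [mul_assoc] using h1
        exact (hn ⟨g, hgX⟩).mpr hg
    have hc := h n n.2 hn'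
    rw [Subgroup.mem_centralizer_iff] at hc ⊢
    intro g hg
    exact Subtype.ext (hc g hg)
  obtain ⟨K', hc, hK'n, hnd⟩ : ∃ K' : Subgroup X, Subgroup.IsComplement' K' (P' : Subgroup X) ∧
      K'.Normal ∧ ¬ p ∣ Nat.card K' :=
    ⟨(MonoidHom.transferSylow P' hNC).ker, MonoidHom.ker_transferSylow_isComplement' P' hNC,
      MonoidHom.normal_ker _, MonoidHom.not_dvd_card_ker_transferSylow P' hNC⟩
  have hcardP : Nat.card (P' : Subgroup X) = Nat.card P :=
    Nat.card_congr (Subgroup.subgroupOfEquivOfLe hPX).toEquiv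
  have hidx : K'.index = Nat.card P := by rw [hc.symm.index_eq_card, hcardP]
  obtain ⟨e, he⟩ := P.2.exists_card_eq
  refine ⟨K'.map X.subtype, Subgroup.map_subtype_le K', ?_, ?_, ?_, ?_, ?_⟩
  · rintro x hx _ ⟨l, hl, rfl⟩
    exact ⟨⟨x, hx⟩ * l * ⟨x, hx⟩⁻¹, hK'n.conj_mem l hl _, rfl⟩
  · rw [Subgroup.card_map_of_injective (Subgroup.subtype_injective X)]
    exact ((Nat.Prime.coprime_iff_not_dvd hp).mpr hnd).symm
  · rw [Subgroup.relIndex, Subgroup.subgroupOf,
      Subgroup.comap_map_eq_self_of_injective (Subgroup.subtype_injective X), hidx]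
  · intro x hx
    obtain ⟨⟨l, v⟩, hlv, -⟩ := (Subgroup.isComplement_iff_existsUnique.mp hc) ⟨x, hx⟩
    refine ⟨l, ⟨l, l.2, rfl⟩, v, v.2, ?_⟩
    exact (congrArg Subtype.val hlv).symm
  · intro y hy hyo
    refine ⟨⟨y, hy⟩, ?_, rfl⟩
    apply mem_of_coprime_order K' e (hidx.trans he)
    rwa [Subgroup.orderOf_mk]

end Cfsg.Agent.Lib.Helper58
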