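import Cfsg.Agent.Lib.Helper58.BG13e
import Cfsg.Agent.S1419
import Cfsg.Agent.S1420
import Cfsg.Agent.S1427
import Cfsg.Agent.S1408

/-!
Bender-Glauberman 12.12 / 15.1(d),(e) (statement S1421): definitions for the ladder BG1212.
-/

set_option autoImplicit false

namespace Cfsg.Agent.Lib.Helper58.BG1212

open Subgroup Cfsg.Agent.Lib.Helper30

universe u

variable {G : Type u} [Group G]

/-- the hypothesis of S1421 -/
def Hyp (M E : Subgroup G) : Prop :=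
  ∀ e ∈ E, e ≠ 1 → (∀ p : ℕ, p.Prime → p ∣ orderOf e → p ∈ Cfsg.tau1 M ∪ Cfsg.tau3 M) →
    Cfsg.sigmaCore M ⊓ centralizer ({e} : Set G) = ⊥

/-- first part of the conclusion of S1421 -/
def ConclA (M E : Subgroup G) : Prop :=
  ∃ A₀ : Subgroup G, A₀ ≤ E ∧ E ≤ normalizer (A₀ : Set G) ∧ IsMulCommutative A₀ ∧
    ∀ x ∈ Cfsg.sigmaCore M, x ≠ 1 → E ⊓ centralizer ({x} : Set G) ≤ A₀

/-- second part of the conclusion of S1421 -/
def ConclB (M E : Subgroup G) : Prop :=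
  ∃ E₀ : Subgroup G, E₀ ≤ E ∧ Monoid.exponent E₀ = Monoid.exponent E ∧
    ∀ e ∈ E₀, e ≠ 1 → Cfsg.sigmaCore M ⊓ centralizer ({e} : Set G) = ⊥

/-- every `p`-subgroup of `G` is abelian -/
def AbP (G : Type u) [Group G] (p : ℕ) : Prop :=
  ∀ P : Subgroup G, IsPGroup p P → ∀ a ∈ P, ∀ b ∈ P, a * b = b * a

/-- the abelian case: for all `q ∈ τ₂(M)` the `q`-subgroups of `G` are abelian -/
def AbTau2 (M : Subgroup G) : Prop := ∀ q : ℕ, q ∈ Cfsg.tau2 M → AbP G q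

end Cfsg.Agent.Lib.Helper58.BG1212
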