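import Cfsg.Agent.Lib.Helper58.BG1212Defs
import Cfsg.Agent.Lib.Helper13.BG127Main

/-!
Ladder BG1212 (statement S1421): basic lemmas.
-/

set_option autoImplicit false
set_option linter.style.haveILetI false
set_option linter.unusedSectionVars false

namespace Cfsg.Agent.Lib.Helper58.BG1212

open Subgroup Cfsg.Agent.Lib.Helper28 Cfsg.Agent.Lib.Helper30 Cfsg.Agent.Lib.Helper58.BG13
open scoped commutatorElement

universe u

variable {G : Type u} [Group G]

theorem centralizer_singleton_le_pow (e : G) (k : ℕ) :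
    centralizer ({e} : Set G) ≤ centralizer ({e ^ k} : Set G) := by
  intro c hc
  rw [mem_centralizer_singleton_iff] at hc ⊢
  exact ((Commute.pow_right (show Commute c e from hc) k)).eq

theorem centralizer_zpowers' (x : G) :
    centralizer ((zpowers x : Subgroup G) : Set G) = centralizer ({x} : Set G) :=
  Cfsg.Agent.Lib.Helper68.centralizer_zpowers_eq x

/-- it is enough to check regularity on the elements of prime order. -/
theorem reg_of_prime [Finite G] {K E₀ : Subgroup G}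
    (h : ∀ e ∈ E₀, (orderOf e).Prime → K ⊓ centralizer ({e} : Set G) = ⊥) :
    ∀ e ∈ E₀, e ≠ 1 → K ⊓ centralizer ({e} : Set G) = ⊥ := by
  intro e he he1
  have h1 : orderOf e ≠ 1 := fun h' => he1 (orderOf_eq_one_iff.mp h')
  obtain ⟨r, hr, hrd⟩ := Nat.exists_prime_and_dvd h1
  have h2 : orderOf (e ^ (orderOf e / r)) = r :=
    orderOf_pow_orderOf_div (orderOf_pos e).ne' hrd
  have h3 := h _ (E₀.pow_mem he (orderOf e / r)) (by rw [h2]; exact hr)
  exact eq_bot_iff.mpr (h3 ▸ inf_le_inf_left K (centralizer_singleton_le_pow e _))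

theorem tau_of_dvd_card [Finite G] (hG : Cfsg.IsMinSimpleOddOrder G) {M E : Subgroup G}
    (hM : IsCoatom M) (hE : Cfsg.IsComplIn E (Cfsg.sigmaCore M) M) {r : ℕ} (hr : r.Prime)
    (hrE : r ∣ Nat.card E) : r ∈ Cfsg.tau1 M ∪ Cfsg.tau3 M ∨ r ∈ Cfsg.tau2 M := by
  rcases tau_cases hG hM hr (hrE.trans (card_dvd_of_le hE.1))
    (BG12.not_mem_sigma_of_dvd_compl hG hM hE hr hrE) with h | h | h
  · exact Or.inl (Or.inl h)
  · exact Or.inr h
  · exact Or.inl (Or.inr h)

theorem reg_of_tau13 {M E : Subgroup G} (h : Hyp M E) {e : G} (heE : e ∈ E)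
    (her : (orderOf e).Prime) (h13 : orderOf e ∈ Cfsg.tau1 M ∪ Cfsg.tau3 M) :
    Cfsg.sigmaCore M ⊓ centralizer ({e} : Set G) = ⊥ := by
  refine h e heE ?_ ?_
  · rintro rfl
    rw [orderOf_one] at her
    exact Nat.not_prime_one her
  · intro p hp hpd
    rwa [(Nat.prime_dvd_prime_iff_eq hp her).mp hpd]

/-- an element of prime order of `E` that is not regular has order in `τ₂(M)`. -/
theorem mem_tau2_of_not_reg [Finite G] (hG : Cfsg.IsMinSimpleOddOrder G) {M E : Subgroup G}
    (hM : IsCoatom M) (hE : Cfsg.IsComplIn E (Cfsg.sigmaCore M) M) (h : Hyp M E) {e : G}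
    (heE : e ∈ E) (her : (orderOf e).Prime)
    (hn : Cfsg.sigmaCore M ⊓ centralizer ({e} : Set G) ≠ ⊥) : orderOf e ∈ Cfsg.tau2 M := by
  rcases tau_of_dvd_card hG hM hE her (orderOf_dvd_card_of_mem heE) with h1 | h1
  · exact absurd (reg_of_tau13 h heE her h1) hn
  · exact h1

section setup

variable [Finite G] (hG : Cfsg.IsMinSimpleOddOrder G) {M E : Subgroup G}
  (hM : IsCoatom M) (hE : Cfsg.IsComplIn E (Cfsg.sigmaCore M) M) {p : ℕ} [Fact p.Prime]
  (hp : p ∈ Cfsg.tau2 M) {A : Subgroup G} (hAE : A ≤ E) (hA : Cfsg.IsElementaryAbelian p A)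
  (hA2 : Nat.card A = p ^ 2)

include hG hM hE hp hAE hA hA2

theorem omega_eq {S : Subgroup G} (hSE : S ≤ E) : ∀ x ∈ S, x ^ p = 1 ↔ x ∈ A := by
  intro x hx
  constructor
  · intro hxp
    by_cases hx1 : x = 1
    · rw [hx1]; exact A.one_mem
    · have h1 : orderOf x = p := orderOf_eq_prime hxp hx1
      have h2 := (Cfsg.Agent.S1418.result hG M hM E hE p hp A ⟨hAE, hA, hA2⟩).1.2 (zpowers x)
        (by rw [zpowers_le]; exact hSE hx) (by rw [Nat.card_zpowers, h1])
      exact h2 (mem_zpowers x)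
  · exact hA.2 x

theorem centralizer_le_E : centralizer (A : Set G) ≤ E := by
  have h := (Cfsg.Agent.S1418.result hG M hM E hE p hp A ⟨hAE, hA, hA2⟩).2.1
  exact h.2.1 ▸ h.1

theorem E_le_normalizer : E ≤ normalizer (A : Set G) :=
  (Cfsg.Agent.S1418.result hG M hM E hE p hp A ⟨hAE, hA, hA2⟩).1.1

/-- a `p`-subgroup of `G` containing `A`, in the abelian case. -/
theorem le_E_of_isPGroup (hab : AbP G p) {S : Subgroup G} (hS : IsPGroup p S) (hAS : A ≤ S) :
    S ≤ E := by
  refine le_trans ?_ (centralizer_le_E hG hM hE hp hAE hA hA2)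
  intro s hs
  rw [mem_centralizer_iff]
  intro a ha
  exact hab S hS a (hAS ha) s hs

theorem normalizer_le_of_isPGroup (hab : AbP G p) {S : Subgroup G} (hS : IsPGroup p S)
    (hAS : A ≤ S) : normalizer (S : Set G) ≤ normalizer (A : Set G) :=
  Cfsg.Agent.Lib.Helper40.BG15.normalizer_le_of_omega hAS
    (omega_eq hG hM hE hp hAE hA hA2 (le_E_of_isPGroup hG hM hE hp hAE hA hA2 hab hS hAS))

/-- `p`-subgroups of `E` centralize `A`. -/
theorem isPGroup_le_centralizer (hab : AbP G p) {P : Subgroup G} (hP : IsPGroup p P) (hPE : P ≤ E) :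
    P ≤ centralizer (A : Set G) := by
  have h2 : IsPGroup p ↥(P ⊔ A) :=
    IsPGroup.to_sup_of_normal_right' hP (Cfsg.Agent.Lib.Helper2.ea_isPGroup hA)
      (hPE.trans (E_le_normalizer hG hM hE hp hAE hA hA2))
  intro s hs
  rw [mem_centralizer_iff]
  intro a ha
  exact hab _ h2 a (mem_sup_right ha) s (mem_sup_left hs)

end setup

end Cfsg.Agent.Lib.Helper58.BG1212
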