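import Cfsg.Agent.Lib.Helper58.BG1212a
import Cfsg.Agent.Lib.Helper2.BG96D
import Cfsg.Agent.S3769
import Cfsg.Agent.Lib.Helper12.Card

set_option autoImplicit false
set_option linter.style.haveILetI false
set_option linter.unusedSectionVars false

namespace Cfsg.Agent.Lib.Helper58.BG1212

open Subgroup Cfsg.Agent.Lib.Helper28 Cfsg.Agent.Lib.Helper30 Cfsg.Agent.Lib.Helper58.BG13
open Cfsg.Agent.Lib.Helper2.BG96 (omZ omZ_le omZ_ea normalizer_le_normalizer_omZ omZ_ne_bot)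
open scoped commutatorElement

universe u

variable {G : Type u} [Group G]

/-- **FROB.** -/
theorem frob [Finite G] (hG : Cfsg.IsMinSimpleOddOrder G) {M E : Subgroup G}
    (hM : IsCoatom M) (hE : Cfsg.IsComplIn E (Cfsg.sigmaCore M) M) {p : ℕ} [Fact p.Prime]
    (hp : p ∈ Cfsg.tau2 M) {A : Subgroup G} (hAE : A ≤ E) (hA : Cfsg.IsElementaryAbelian p A)
    (hA2 : Nat.card A = p ^ 2) {e : G} (heE : e ∈ E) (her : (orderOf e).Prime)
    (hfpf : A ⊓ centralizer ({e} : Set G) = ⊥) :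
    Cfsg.sigmaCore M ⊓ centralizer ({e} : Set G) ≠ ⊥ := by
  intro h0
  have hpp : p.Prime := Fact.out
  have hAp := Cfsg.Agent.Lib.Helper2.ea_isPGroup hA
  have hA1 : A ≠ ⊥ := Cfsg.Agent.Lib.Helper13.BG127.ne_bot_of_card_sq hA2
  have h18 := Cfsg.Agent.S1418.result hG M hM E hE p hp A ⟨hAE, hA, hA2⟩
  have h17 := Cfsg.Agent.S1417.result hG M hM p hp A ⟨hAE.trans hE.1, hA, hA2⟩
  have hEN := h18.1.1
  have hK1 : Cfsg.sigmaCore M ≠ ⊥ :=
    Cfsg.Agent.Lib.Helper13.BG127.ms_ne_bot hG hM hE hA1 (hAE.trans hE.1) h18.2.1.2.1 h18.2.1.2.2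
  obtain ⟨r, hr⟩ : ∃ r, orderOf e = r := ⟨_, rfl⟩
  have hrr : Fact r.Prime := ⟨hr ▸ her⟩
  have hRc : Nat.card (zpowers e) = r := by rw [Nat.card_zpowers, hr]
  have hRp : IsPGroup r (zpowers e) := isPGroup_of_card_prime hRc
  have hCR : centralizer ((zpowers e : Subgroup G) : Set G) = centralizer ({e} : Set G) :=
    centralizer_zpowers' e
  have hrp : r ≠ p := by
    rintro rfl
    have h1 := Cfsg.Agent.Lib.Helper13.BG127.pelt_centralizes hG
      (fun M hM p _ hp A hA => Cfsg.Agent.S1417.result hG M hM p hp A hA) hM hp.2.1 (hAE.trans hE.1) hA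
      (hE.1 heE) (hEN heE) (k := 1) (by rw [pow_one, ← hr]; exact pow_orderOf_eq_one e)
    apply hA1
    rw [eq_bot_iff, ← hfpf]
    refine le_inf le_rfl ?_
    intro a ha
    rw [mem_centralizer_singleton_iff]
    exact (mem_centralizer_iff.mp h1) a ha
  have hRA : zpowers e ≤ normalizer (A : Set G) := zpowers_le.mpr (hEN heE)
  have hHE : A ⊔ zpowers e ≤ E := sup_le hAE (zpowers_le.mpr heE)
  have hHK : A ⊔ zpowers e ≤ normalizer (Cfsg.sigmaCore M : Set G) :=
    (hHE.trans hE.1).trans (BG12.le_normalizer_sigmaCore M)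
  have hcopE : (Nat.card E).Coprime (Nat.card (Cfsg.sigmaCore M)) := by
    rw [BG12.card_compl hE]
    exact (Cfsg.Agent.Lib.Helper31.sigmaCore_coprime hG hM).symm
  have hcop : (Nat.card (A ⊔ zpowers e : Subgroup G)).Coprime (Nat.card (Cfsg.sigmaCore M)) :=
    Nat.Coprime.coprime_dvd_left (card_dvd_of_le hHE) hcopE
  have hMsolv : Group.IsSolvable M := solvable_of_ne_top hG hM.1
  have hHsolv : Group.IsSolvable (A ⊔ zpowers e : Subgroup G) :=
    isSolvable_of_le (hHE.trans hE.1) hMsolv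
  obtain ⟨l, hl, hld⟩ := Nat.exists_prime_and_dvd
    (fun h1 => hK1 (Subgroup.card_eq_one.mp h1) : Nat.card (Cfsg.sigmaCore M) ≠ 1)
  have hlf : Fact l.Prime := ⟨hl⟩
  obtain ⟨Q, hQ, hHQ⟩ := exists_invariant_isSylowIn hHK hcop (Or.inl hHsolv) l
  have hQ1 : Q ≠ ⊥ := ne_bot_of_isSylowIn_of_dvd hQ hld
  have hV1 : omZ l Q ≠ ⊥ := omZ_ne_bot hQ.isPGroup hQ1
  have hVK : omZ l Q ≤ Cfsg.sigmaCore M := (omZ_le l Q).trans hQ.le
  have hHV : A ⊔ zpowers e ≤ normalizer (omZ l Q : Set G) :=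
    hHQ.trans (normalizer_le_normalizer_omZ l Q)
  have hlH : ¬ l ∣ Nat.card (A ⊔ zpowers e : Subgroup G) := by
    intro hd
    exact Nat.Prime.not_coprime_iff_dvd.mpr ⟨l, hl, hd, hld⟩ hcop
  have hAR : A ⊓ zpowers e = ⊥ := by
    apply eq_bot_of_isPGroup_of_coprime (p := p) (hAp.to_le inf_le_left)
    have h7 : Nat.card (A ⊓ zpowers e : Subgroup G) ∣ r := hRc ▸ card_dvd_of_le inf_le_right
    exact Nat.Coprime.coprime_dvd_left h7 ((Nat.coprime_primes hrr.out hpp).mpr hrp)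
  have hodd : Odd (Nat.card (A ⊔ zpowers e : Subgroup G)) :=
    Odd.of_dvd_nat hG.1 (Subgroup.card_subgroup_dvd_card _)
  have hHA : A ⊔ zpowers e ≤ normalizer (A : Set G) := sup_le le_normalizer hRA
  have hHall : (Nat.card A).Coprime (A.relIndex (A ⊔ zpowers e)) := by
    have h1 : A.relIndex (A ⊔ zpowers e) ∣ r := by
      have h2 := Cfsg.Agent.Lib.Helper12.card_sup_mul_card_inf' (zpowers e) A hRA
      rw [inf_comm, hAR, card_bot, mul_one, sup_comm, hRc] at h2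
      have h3 := Cfsg.Agent.Lib.Helper12.relIndex_mul_card' (le_sup_left : A ≤ A ⊔ zpowers e)
      rw [h2] at h3
      have h4 : A.relIndex (A ⊔ zpowers e) = r :=
        Nat.eq_of_mul_eq_mul_right (Nat.card_pos (α := A)) h3
      rw [h4]
    rw [hA2]
    exact Nat.Coprime.coprime_dvd_right h1
      (Nat.Coprime.pow_left 2 ((Nat.coprime_primes hpp hrr.out).mpr hrp.symm))
  have h69 := Cfsg.Agent.S3769.result (A ⊔ zpowers e) hHsolv hodd (omZ l Q) hl (omZ_ea l Q) hlH hHV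
    A (zpowers e) le_sup_left hHA hHall le_sup_right (by rw [hRc]; exact hrr.out) hAR rfl
    (by
      rw [hCR, eq_bot_iff, ← h0]
      exact inf_le_inf_right _ hVK)
  have hcomm : ⁅A, zpowers e⁆ = A := by
    have h1 := commutator_sup_centralizer hRA
      (by rw [hRc, hA2]; exact Nat.Coprime.pow_right 2 ((Nat.coprime_primes hrr.out hpp).mpr hrp))
      (Or.inl (isSolvable_of_le le_sup_right hHsolv))
    rwa [hCR, hfpf, sup_bot_eq] at h1
  rw [commutator_comm, hcomm] at h69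
  apply hV1
  rw [eq_bot_iff, ← h17.2.2.2.1]
  exact le_inf hVK (le_centralizer_iff.mp h69)

end Cfsg.Agent.Lib.Helper58.BG1212
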