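import Cfsg.Agent.Lib.Helper58.BG1212a
import Cfsg.Agent.Lib.Helper58.BG1212f
import Cfsg.Agent.Lib.Helper62.BG1212Cyc
import Cfsg.Agent.Lib.Helper1.BG1212ABN
import Cfsg.Agent.Lib.Helper30.CNLocal2

/-!
Ladder BG1212 (statement S1421): rung RED (`E` normalizes a subgroup of order `p` of `A`).
-/

set_option autoImplicit false
set_option linter.style.haveILetI false
set_option linter.unusedSectionVars false

namespace Cfsg.Agent.Lib.Helper58.BG1212

open Subgroup Cfsg.Agent.Lib.Helper28 Cfsg.Agent.Lib.Helper30 Cfsg.Agent.Lib.Helper58.BG13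
open Cfsg.Agent.Lib.Helper62.BG1212 (cyc)
open Cfsg.Agent.Lib.Helper1.BG1212 (comm_normalizer_le)
open scoped commutatorElement

universe u

variable {G : Type u} [Group G]

theorem le_normalizer_of_forall {E D : Subgroup G} (h : ∀ e ∈ E, ∀ a ∈ D, e * a * e⁻¹ ∈ D) :
    E ≤ normalizer (D : Set G) := by
  intro e he
  rw [mem_normalizer_iff]
  intro a
  refine ⟨h e he a, fun ha => ?_⟩
  have := h e⁻¹ (inv_mem he) _ ha
  simpa [mul_assoc] using this

/-- a Sylow subgroup of a nilpotent subgroup `K` is normalized by `N(K)`. -/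
theorem le_normalizer_of_nilpotent [Finite G] {p : ℕ} [Fact p.Prime] {K L S : Subgroup G}
    (hK : Group.IsNilpotent K) (hLK : L ≤ normalizer (K : Set G)) (hS : IsSylowIn p S K) :
    L ≤ normalizer (S : Set G) := by
  obtain ⟨P, hP⟩ := hS.exists_sylow
  have hPn : (P : Subgroup K).Normal := sylow_normal_of_nilpotent hK P
  have hKS : K ≤ normalizer (S : Set G) := by
    apply le_normalizer_of_forall
    intro k hk a ha
    rw [← hP] at ha ⊢
    obtain ⟨a', ha', rfl⟩ := ha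
    exact ⟨⟨k, hk⟩ * a' * ⟨k, hk⟩⁻¹, hPn.conj_mem a' ha' ⟨k, hk⟩, rfl⟩
  intro l hl
  have h1 : IsSylowIn p (cj l S) K := by
    have := hS.cj l
    rwa [cj_eq_of_mem_normalizer (hLK hl)] at this
  obtain ⟨k, hk, hk2⟩ := hS.conj h1
  rw [cj_eq_of_mem_normalizer (hKS hk)] at hk2
  exact mem_normalizer_of_cj_eq hk2

section

variable [Finite G] (hG : Cfsg.IsMinSimpleOddOrder G) {M E : Subgroup G}
  (hM : IsCoatom M) (hE : Cfsg.IsComplIn E (Cfsg.sigmaCore M) M) {p : ℕ} [Fact p.Prime]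
  (hp : p ∈ Cfsg.tau2 M) {A : Subgroup G} (hAE : A ≤ E) (hA : Cfsg.IsElementaryAbelian p A)
  (hA2 : Nat.card A = p ^ 2)

include hG hM hE hp hAE hA hA2

/-- if `E` normalizes no subgroup of order `p` of `A`, every element of `N(A)` centralizes `A` or acts
without fixed points. -/
theorem dichotomy (hab : AbP G p)
    (hno : ¬ ∃ X : Subgroup G, X ≤ A ∧ Nat.card X = p ∧ E ≤ normalizer (X : Set G))
    {n : G} (hn : n ∈ normalizer (A : Set G)) :
    n ∈ centralizer (A : Set G) ∨ A ⊓ centralizer ({n} : Set G) = ⊥ := by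
  have hpp : p.Prime := Fact.out
  have hN' := comm_normalizer_le hG hab hA hA2
  have hEN := E_le_normalizer hG hM hE hp hAE hA hA2
  set D : Subgroup G := A ⊓ centralizer ({n} : Set G) with hD
  have hED : E ≤ normalizer (D : Set G) := by
    apply le_normalizer_of_forall
    intro e he a ha
    obtain ⟨haA, haC⟩ := mem_inf.mp ha
    rw [mem_centralizer_singleton_iff] at haC
    refine mem_inf.mpr ⟨(mem_normalizer_iff.mp (hEN he) a).mp haA, ?_⟩
    rw [mem_centralizer_singleton_iff]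
    have hc : ⁅e⁻¹, n⁆ ∈ centralizer (A : Set G) :=
      hN' (commutator_mem_commutator (inv_mem (hEN he)) hn)
    have hca : a * ⁅e⁻¹, n⁆ = ⁅e⁻¹, n⁆ * a := (mem_centralizer_iff.mp hc) a haA
    have hn' : n = e * (⁅e⁻¹, n⁆ * n) * e⁻¹ := by
      rw [commutatorElement_def]; group
    have key : (⁅e⁻¹, n⁆ * n) * a = a * (⁅e⁻¹, n⁆ * n) := by
      rw [mul_assoc, ← mul_assoc a, hca, mul_assoc]
      congr 1
      first | exact haC | exact haC.symm
    have : e * (⁅e⁻¹, n⁆ * n) * e⁻¹ * (e * a * e⁻¹) = e * a * e⁻¹ * (e * (⁅e⁻¹, n⁆ * n) * e⁻¹) := by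
      calc e * (⁅e⁻¹, n⁆ * n) * e⁻¹ * (e * a * e⁻¹) = e * ((⁅e⁻¹, n⁆ * n) * a) * e⁻¹ := by group
        _ = e * (a * (⁅e⁻¹, n⁆ * n)) * e⁻¹ := by rw [key]
        _ = e * a * e⁻¹ * (e * (⁅e⁻¹, n⁆ * n) * e⁻¹) := by group
    rw [← hn'] at this
    first | exact this | exact this.symm
  have hDd : Nat.card D ∣ p ^ 2 := hA2 ▸ card_dvd_of_le (inf_le_left : D ≤ A)
  obtain ⟨k, hk, hkc⟩ := (Nat.dvd_prime_pow hpp).mp hDd
  interval_cases k
  · right
    rw [pow_zero] at hkc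
    exact Subgroup.card_eq_one.mp hkc
  · exact absurd ⟨D, inf_le_left, by rw [hkc, pow_one], hED⟩ hno
  · left
    have hDA : D = A := Subgroup.eq_of_le_of_card_ge inf_le_left (by rw [hkc, hA2])
    rw [mem_centralizer_iff]
    intro a ha
    have h1 : a ∈ D := hDA ▸ ha
    have h2 := (mem_inf.mp h1).2
    rw [mem_centralizer_singleton_iff] at h2
    exact h2

/-- the case of a prime `r` for which `L` has cyclic Sylow `r`-subgroups. -/
theorem red_cyclic {L : Subgroup G} (hL : IsCoatom L) (hAL : A ≤ Cfsg.sigmaCore L) {r : ℕ}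
    [hr : Fact r.Prime] (hrσ : r ∉ Cfsg.sigma L) (hrk : Cfsg.PRankLE r 1 L) {e : G} (heL : e ∈ L)
    (her : IsPGroup r (zpowers e)) {n : ℕ} (hn : orderOf (e ^ n) = r)
    (hC : e ^ n ∈ centralizer (A : Set G)) : e ∈ centralizer (A : Set G) := by
  have he1 : zpowers e ≠ ⊥ := by
    intro h0
    rw [zpowers_eq_bot] at h0
    rw [h0, one_pow, orderOf_one] at hn
    exact hr.out.one_lt.ne hn
  have hr2 : r ≠ 2 := BG12.ne_two_of_isPGroup hG her he1
  obtain ⟨E', hE', heE'⟩ := BG12.exists_compl_ge hG hL (X := zpowers e) (zpowers_le.mpr heL)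
    (fun q hq hqd => by rw [BG12.prime_dvd_card_isPGroup her hq hqd]; exact hrσ)
  obtain ⟨R', hR', heR'⟩ := exists_isSylowIn_ge heE' her
  have hR'c : IsCyclic R' := isCyclic_of_pRankLE_one hr2 hrk (hR'.le.trans hE'.1) hR'.isPGroup
  obtain ⟨Sy, hSy⟩ := hR'.exists_sylow
  have heR : e ∈ R' := heR' (mem_zpowers e)
  have hSy1 : (Sy : Subgroup E') ≠ ⊥ := by
    intro h0
    rw [h0, Subgroup.map_bot] at hSy
    rw [← hSy, mem_bot] at heR
    exact he1 (zpowers_eq_bot.mpr heR)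
  have hSyc : IsCyclic (Sy : Subgroup E') := by
    have e1 : (Sy : Subgroup E') ≃* R' :=
      ((Sy : Subgroup E').equivMapOfInjective E'.subtype E'.subtype_injective).trans
        (MulEquiv.subgroupCongr hSy)
    exact isCyclic_of_surjective e1.symm.toMonoidHom e1.symm.surjective
  have h27 := Cfsg.Agent.S1427.result hG L hL E' hE' r Sy hSy1 hSyc (e ^ n)
    (by rw [hSy]; exact R'.pow_mem heR n)
    (by
      intro h0
      rw [h0, orderOf_one] at hn
      exact hr.out.one_lt.ne hn)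
  rw [hSy] at h27
  have h1 : A ≤ Cfsg.sigmaCore L ⊓ centralizer ({e ^ n} : Set G) := by
    refine le_inf hAL ?_
    intro a ha
    rw [mem_centralizer_singleton_iff]
    exact (mem_centralizer_iff.mp hC) a ha
  rw [h27] at h1
  rw [mem_centralizer_iff]
  intro a ha
  exact ((mem_centralizer_iff.mp (h1 ha).2) e heR).symm

/-- **RED.** -/
theorem exists_invariant_line (h : Hyp M E) (hab : AbTau2 M) :
    ∃ X : Subgroup G, X ≤ A ∧ Nat.card X = p ∧ E ≤ normalizer (X : Set G) := by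
  by_contra hno
  have hpp : p.Prime := Fact.out
  have habp := hab p hp
  have hAp := Cfsg.Agent.Lib.Helper2.ea_isPGroup hA
  have hCE := centralizer_le_E hG hM hE hp hAE hA hA2
  have hEN := E_le_normalizer hG hM hE hp hAE hA hA2
  have h18 := Cfsg.Agent.S1418.result hG M hM E hE p hp A ⟨hAE, hA, hA2⟩
  have hA1 : A ≠ ⊥ := Cfsg.Agent.Lib.Helper13.BG127.ne_bot_of_card_sq hA2
  have hAc : ∀ a ∈ A, ∀ a' ∈ A, a * a' = a' * a := fun a ha a' ha' => habp A hAp a ha a' ha'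
  have hdich : ∀ n ∈ normalizer (A : Set G),
      n ∈ centralizer (A : Set G) ∨ A ⊓ centralizer ({n} : Set G) = ⊥ :=
    fun n hn => dichotomy hG hM hE hp hAE hA hA2 habp hno hn
  -- `E` does not centralize `A`
  have hEC : ¬ E ≤ centralizer (A : Set G) := by
    intro hEC
    obtain ⟨X, hXA, hX⟩ := exists_card_prime_le hAp hA1
    exact hno ⟨X, hXA, hX, (hEC.trans (centralizer_le hXA)).trans (centralizer_le_normalizer _)⟩
  obtain ⟨r, hr, R, hR, hRC⟩ : ∃ (r : ℕ) (_ : Fact r.Prime) (R : Subgroup G),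
      IsSylowIn r R E ∧ ¬ R ≤ centralizer (A : Set G) := by
    by_contra hcon
    push Not at hcon
    apply hEC
    apply Cfsg.Agent.Lib.Helper68.le_of_forall_isSylowIn
    intro q hq _
    obtain ⟨S, hS⟩ := exists_isSylowIn q E
    exact ⟨S, hS, hcon q hq S hS⟩
  obtain ⟨e, heR, heC⟩ := SetLike.not_le_iff_exists.mp hRC
  have hrp : r ≠ p := by
    rintro rfl
    exact hRC (isPGroup_le_centralizer hG hM hE hp hAE hA hA2 habp hR.isPGroup hR.le)
  have he1 : e ≠ 1 := by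
    rintro rfl
    exact heC (one_mem _)
  have heE : e ∈ E := hR.le heR
  have her : IsPGroup r (zpowers e) := hR.isPGroup.to_le (zpowers_le.mpr heR)
  obtain ⟨n, hn⟩ := exists_pow_orderOf_eq hR.isPGroup heR he1
  have he₀E : e ^ n ∈ E := E.pow_mem heE n
  -- the element of order `r` centralizes `A`
  have he₀C : e ^ n ∈ centralizer (A : Set G) := by
    rcases hdich _ (hEN he₀E) with h1 | h1
    · exact h1
    · have h2 := frob hG hM hE hp hAE hA hA2 he₀E (by rw [hn]; exact hr.out) h1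
      have h3 := mem_tau2_of_not_reg hG hM hE h he₀E (by rw [hn]; exact hr.out) h2
      rw [hn] at h3
      obtain ⟨B, hBE, hB, hB2⟩ := BG12.exists_ea_sq_in_compl hG hM hE h3
      have h4 := (Cfsg.Agent.S1418.result hG M hM E hE r h3 B ⟨hBE, hB, hB2⟩).1
      have h5 : e ^ n ∈ B := h4.2 (zpowers (e ^ n)) (zpowers_le.mpr he₀E)
        (by rw [Nat.card_zpowers, hn]) (mem_zpowers _)
      have h6 : A ⊓ B = ⊥ := by
        apply eq_bot_of_isPGroup_of_coprime (p := p) (hAp.to_le inf_le_left)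
        have h7 : Nat.card (A ⊓ B : Subgroup G) ∣ r ^ 2 := hB2 ▸ card_dvd_of_le inf_le_right
        exact Nat.Coprime.coprime_dvd_left h7
          (Nat.Coprime.pow_left 2 ((Nat.coprime_primes hr.out hpp).mpr hrp))
      exact Cfsg.Agent.Lib.Helper13.BG127.le_centralizer_of_normalize hAE hBE hEN h4.1 h6 h5
  -- a maximal subgroup `L` containing `N(A)`
  have hAtop : A ≠ ⊤ := Cfsg.Agent.Lib.Helper68.isPGroup_ne_top hG hAp
  obtain ⟨L, hL, hNL⟩ := BG9.exists_coatom_ge (normalizer_ne_top hG hA1 hAtop)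
  have hLM : M ≠ L := by
    rintro rfl
    exact h18.2.1.2.2 hNL
  obtain ⟨S, hS, hAS⟩ := exists_isSylowIn_ge (K := ⊤) le_top hAp
  have hSE := le_E_of_isPGroup hG hM hE hp hAE hA hA2 habp hS.isPGroup hAS
  have hNS := normalizer_le_of_isPGroup hG hM hE hp hAE hA hA2 habp hS.isPGroup hAS
  have hEL : E ≤ L := hEN.trans hNL
  have hSL : S ≤ L := hSE.trans hEL
  have hS1 : S ≠ ⊥ := fun h0 => hA1 (eq_bot_iff.mpr (h0 ▸ hAS))
  have hSsL : IsSylowIn p S L := Cfsg.Agent.Lib.Helper2.BG139.isSylowIn_of_top hS hSL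
  have hpL : p ∈ Cfsg.sigma L :=
    Cfsg.Agent.Lib.Helper68.mem_sigma_of_normalizer_le hSsL hS1 (hNS.trans hNL)
  have hALσ : A ≤ Cfsg.sigmaCore L := BG12.isPGroup_le_sigmaCore hG hL hpL (hAE.trans hEL) hAp
  have hσL' : Cfsg.sigmaCore L ≤ ⁅L, L⁆ :=
    Cfsg.Agent.Lib.Helper2.BG139.sigmaCore_le_commutator0 (texts0 hG) hL
  have hpβ : p ∉ Cfsg.beta L := fun hβ =>
    (Cfsg.Agent.S1408.result hG M hM p hp.2.1 hp.2.2.1 hp.2.2.2).1 hβ.2
  have heL : e ∈ L := hEL heE
  have hrL : r ∣ Nat.card L :=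
    (dvd_card_of_isPGroup_ne_bot her (by rwa [Ne, zpowers_eq_bot])).trans
      (card_dvd_of_le (zpowers_le.mpr heL))
  by_cases hrσ : r ∈ Cfsg.sigma L
  · have h1 : zpowers e ≤ Cfsg.sigmaCore L :=
      BG12.isPGroup_le_sigmaCore hG hL hrσ (zpowers_le.mpr heL) her
    have h2 := lemmaK hG hL hpβ hAp hA1 (hALσ.trans hσL') (h1.trans hσL')
      (coprime_card_of_isPGroup hrp her) (zpowers_le.mpr (hEN heE))
    exact heC (h2 (mem_zpowers e))
  rcases tau_cases hG hL hr.out hrL hrσ with h1 | h2 | h3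
  · exact heC (red_cyclic hG hM hE hp hAE hA hA2 hL hALσ hrσ h1.2.2.2.2 heL her hn he₀C)
  · -- `r ∈ τ₂(L)`
    obtain ⟨E', hE', heE'⟩ := BG12.exists_compl_ge hG hL (X := zpowers e) (zpowers_le.mpr heL)
      (fun q hq hqd => by rw [BG12.prime_dvd_card_isPGroup her hq hqd]; exact hrσ)
    obtain ⟨B, hBE', hB, hB2⟩ := BG12.exists_ea_sq_in_compl hG hL hE' h2
    have h18' := Cfsg.Agent.S1418.result hG L hL E' hE' r h2 B ⟨hBE', hB, hB2⟩
    have h17' := Cfsg.Agent.S1417.result hG L hL r h2 B ⟨hBE'.trans hE'.1, hB, hB2⟩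
    have hSσ : IsSylowIn p S (Cfsg.sigmaCore L) :=
      Cfsg.Agent.Lib.Helper2.BG139.isSylowIn_of_top hS
        (BG12.isPGroup_le_sigmaCore hG hL hpL hSL hS.isPGroup)
    have hLS : L ≤ normalizer (S : Set G) :=
      le_normalizer_of_nilpotent h17'.1 (BG12.le_normalizer_sigmaCore L) hSσ
    have hLA : L ≤ normalizer (A : Set G) := hLS.trans hNS
    have hBp := Cfsg.Agent.Lib.Helper2.ea_isPGroup hB
    have hR₁p : IsPGroup r ↥(zpowers e ⊔ B) :=
      IsPGroup.to_sup_of_normal_right' her hBp (heE'.trans h18'.1.1)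
    have hR₁L : zpowers e ⊔ B ≤ L := sup_le (zpowers_le.mpr heL) (hBE'.trans hE'.1)
    have hBE : B ≤ E := by
      intro b hb
      obtain ⟨k, hk⟩ := her ⟨e, mem_zpowers e⟩
      have hk' : e ^ r ^ k = 1 := by simpa using congrArg Subtype.val hk
      obtain ⟨i, hi⟩ := cyc (A := A) (R := zpowers e ⊔ B) hA1 hAc (hR₁L.trans hLA)
        (fun x hx y hy => BG12.comm_of_isPGroup_sigma' hG
          (fun M hM p _ hp A hA => Cfsg.Agent.S1417.result hG M hM p hp A hA) hL hrσ hR₁L hR₁p hx hy)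
        (fun g hg => hdich g (hLA (hR₁L hg))) (r := r) (e := e) (b := b)
        (mem_sup_left (mem_zpowers e)) (mem_sup_right hb) hk' heC (hB.2 b hb)
      have h5 : b * e ^ i ∈ E := hCE hi
      have h6 := E.mul_mem h5 (E.inv_mem (E.pow_mem heE i))
      rwa [mul_inv_cancel_right] at h6
    have h7 := h17'.2.2.2.2.1 M hM hLM (hBE.trans hE.1)
    exact hA1 (eq_bot_iff.mpr (h7 ▸ le_inf hALσ (hAE.trans hE.1)))
  · exact heC (red_cyclic hG hM hE hp hAE hA hA2 hL hALσ hrσ h3.2.2.2 heL her hn he₀C)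

end

end Cfsg.Agent.Lib.Helper58.BG1212
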