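import Cfsg.Agent.Lib.Helper58.BG13c

/-!
Statement S1428 (B-G Theorem 13.3) from `Core1428 G` and the complementary case `q ∈ σ(H)`.
-/

set_option autoImplicit false
set_option linter.style.haveILetI false

namespace Cfsg.Agent.Lib.Helper58.BG13

open Subgroup Cfsg.Agent.Lib.Helper28 Cfsg.Agent.Lib.Helper30
open Cfsg.Agent.Lib.Helper2.BG139 (Core1428)
open scoped commutatorElement

universe u

variable {G : Type u} [Group G]

/-- the case `q ∈ σ(H)` complementary to `Core1428`. -/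
def CaseS (G : Type u) [Group G] : Prop :=
  ∀ (M : Subgroup G), IsCoatom M → ∀ (p r q : ℕ), p ∈ Cfsg.tau1 M → r.Prime → r ≠ p →
    r ∉ Cfsg.sigma M → q ∈ Cfsg.sigma M → ∀ P R Y H : Subgroup G, P ≤ M → Nat.card P = p → R ≤ M →
    R ≤ centralizer (P : Set G) → Nat.card R = r → IsPGroup q Y → Y ≠ ⊥ → Y ≤ M →
    Y ≤ centralizer (P : Set G) → R ≤ normalizer (Y : Set G) → ⁅Y, R⁆ = Y → IsCoatom H →
    normalizer (P : Set G) ≤ H → q ∈ Cfsg.sigma H → False

/-- second part of the text of S1378. -/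
def SP (G : Type u) [Group G] : Prop :=
  ∀ M N : Subgroup G, IsCoatom M → IsCoatom N → (Cfsg.sigma M ∩ Cfsg.sigma N).Nonempty →
    ∃ g : G, N = M.map (MulAut.conj g).toMonoidHom

theorem caseS_of_sp [Finite G] (hG : Cfsg.IsMinSimpleOddOrder G) (h : SP G) : CaseS G := by
  intro M hM p r q hpM _ _ _ hqM P R Y H _ hPc _ _ _ _ _ _ _ _ _ hH hNP hqH
  haveI hpf : Fact p.Prime := ⟨hpM.1⟩
  obtain ⟨g, hg⟩ := h M H hM hH ⟨q, hqM, hqH⟩
  have hpH : p ∈ Cfsg.sigma H ∨ p ∈ Cfsg.tau2 H := by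
    by_cases h : p ∈ Cfsg.sigma H
    · exact Or.inl h
    · have h1 := (Cfsg.Agent.S1409.result hG H hH p h P hPc hNP).1
      exact Or.inr ⟨hpf.out, h, h1.1, h1.2⟩
  exact not_conj_of_tau1 hpM hpH g hg

/-- statement S1428. -/
theorem S1428_of [Finite G] (hG : Cfsg.IsMinSimpleOddOrder G) (core : Core1428 G) (cs : CaseS G)
    (M : Subgroup G) (hM : IsCoatom M) (E : Subgroup G)
    (hE : Cfsg.IsComplIn E (Cfsg.sigmaCore M) M) (p : ℕ) (hp : p ∈ Cfsg.tau1 M) (P : Subgroup G)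
    (hPE : P ≤ E) (hP : Nat.card P = p)
    (R : Subgroup G) (hRE : R ≤ E ⊓ Subgroup.centralizer (P : Set G)) (hR : (Nat.card R).Prime) :
    Cfsg.sigmaCore M ⊓ Subgroup.centralizer (P : Set G) ≤
      Cfsg.sigmaCore M ⊓ Subgroup.centralizer (R : Set G) := by
  haveI hpf : Fact p.Prime := ⟨hp.1⟩
  haveI hrf : Fact (Nat.card R).Prime := ⟨hR⟩
  have hPM : P ≤ M := hPE.trans hE.1
  have hRM : R ≤ M := (hRE.trans inf_le_left).trans hE.1
  have hRP : R ≤ centralizer (P : Set G) := hRE.trans inf_le_right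
  have hPp : IsPGroup p P := isPGroup_of_card_prime hP
  have hP1 : P ≠ ⊥ := ne_bot_of_card_prime hP
  have hRp : IsPGroup (Nat.card R) R := isPGroup_of_card_prime rfl
  have hR1 : R ≠ ⊥ := ne_bot_of_card_prime (p := Nat.card R) rfl
  refine le_inf inf_le_left ?_
  by_cases hrp : Nat.card R = p
  · -- `R = P`
    have hp2 : p ≠ 2 := BG12.ne_two_of_isPGroup hG hPp hP1
    have hRp' : IsPGroup p R := isPGroup_of_card_prime hrp
    have hsup : IsPGroup p (R ⊔ P : Subgroup G) :=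
      IsPGroup.to_sup_of_normal_right' hRp' hPp (hRP.trans (centralizer_le_normalizer _))
    have hc : IsCyclic (R ⊔ P : Subgroup G) :=
      isCyclic_of_pRankLE_one hp2 hp.2.2.2.2 (sup_le hRM hPM) hsup
    have : R = P := eq_of_le_cyclic_of_card_eq hc le_sup_left le_sup_right (by rw [hrp, hP])
    rw [this]
    exact inf_le_right
  by_contra hcon
  set D := Cfsg.sigmaCore M ⊓ centralizer (P : Set G) with hD
  have hRC : R ≤ normalizer ((centralizer (P : Set G) : Subgroup G) : Set G) := by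
    intro x hx
    apply mem_normalizer_of_cj_eq
    rw [← centralizer_cj, cj_eq_of_mem_normalizer (centralizer_le_normalizer _ (hRP hx))]
  have hRD : R ≤ normalizer (D : Set G) :=
    le_normalizer_inf (hRM.trans (BG12.le_normalizer_sigmaCore M)) hRC
  have hσ := BG12.sigmaCore_hall hG hM
  have hrM : Nat.card R ∉ Cfsg.sigma M := BG12.not_mem_sigma_of_dvd_compl hG hM hE hR
    (card_dvd_of_le (hRE.trans inf_le_left))
  have hcop : (Nat.card R).Coprime (Nat.card D) := by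
    rw [Nat.Prime.coprime_iff_not_dvd hR]
    exact fun h => hrM (hσ.2.1 _ hR (h.trans (card_dvd_of_le inf_le_left)))
  have hsolv : Group.IsSolvable R ∨ Group.IsSolvable D := by
    left
    have := hRp.isNilpotent
    infer_instance
  obtain ⟨q, hq, Y, hqD, hYD, hY, hY1, hRY, hYR⟩ := exists_comm_pgroup hRD hcop hsolv hcon
  have hqM : q ∈ Cfsg.sigma M := hσ.2.1 q hq.out (hqD.trans (card_dvd_of_le inf_le_left))
  have hYM : Y ≤ M := (hYD.trans inf_le_left).trans (BG12.sigmaCore_le M)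
  have hYP : Y ≤ centralizer (P : Set G) := hYD.trans inf_le_right
  have hPtop : P ≠ ⊤ := fun h => hM.1 (top_le_iff.mp (h ▸ hPM))
  obtain ⟨H, hH, hNP⟩ := BG9.exists_coatom_ge (normalizer_ne_top hG hP1 hPtop)
  by_cases hqH : q ∈ Cfsg.sigma H
  · exact cs M hM p _ q hp hR hrp hrM hqM P R Y H hPM hP hRM hRP rfl hY hY1 hYM hYP hRY hYR hH hNP hqH
  · exact core M hM p _ q hp hR hrp hrM hqM P R Y H hPM hP hRM hRP rfl hY hY1 hYM hYP hRY hYR hH hNP
      hqH

end Cfsg.Agent.Lib.Helper58.BG13
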