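import Cfsg.Agent.Lib.Helper58.PGSYLE
import Cfsg.Agent.Lib.Helper20.M11G3

/-!
# Ladder "PG" (S2490), rung PERM: twelve Sylow 11-subgroups force a normal 11'-subgroup.
-/

set_option autoImplicit false
set_option linter.unusedSectionVars false
set_option linter.unusedVariables false
set_option linter.style.haveILetI false

open Cfsg.Agent.Lib.Helper20.PG

namespace Cfsg.Agent.Lib.Helper58.PG

theorem perm12 {G : Type*} [Group G] [Finite G] (hG : Nat.card G = 7920)
    (h12 : Nat.card (Sylow 11 G) = 12) :
    ∃ L : Subgroup G, L.Normal ∧ L ≠ ⊥ ∧ ¬ 11 ∣ Nat.card L := by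
  classical
  haveI : Fact (Nat.Prime 11) := ⟨by norm_num⟩
  haveI : Fact (Nat.Prime 2) := ⟨by norm_num⟩
  obtain ⟨P⟩ : Nonempty (Sylow 11 G) := inferInstance
  have hP : Nat.card P = 11 := syle_card_sylow11 hG P
  -- an involution centralizing `P`
  have hc := card_eq_sylow_mul 11 P
  have he := (Cfsg.Agent.Lib.Helper20.M11.sylow_arith 11 P hP).1
  rw [hG, h12] at hc
  have h2C : 2 ∣ Nat.card (Subgroup.centralizer ((P : Subgroup G) : Set G)) := by
    generalize (Subgroup.centralizer ((P : Subgroup G) : Set G)).relIndex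
      (Subgroup.normalizer ((P : Subgroup G) : Set G)) = e at *
    generalize Nat.card (Subgroup.centralizer ((P : Subgroup G) : Set G)) = c at *
    have he10 : e ≤ 10 := Nat.le_of_dvd (by norm_num) he
    interval_cases e <;> omega
  obtain ⟨w0, hw0⟩ := exists_prime_orderOf_dvd_card' 2 h2C
  set w : G := (w0 : G) with hw
  have hwo : orderOf w = 2 := by rw [hw, Subgroup.orderOf_coe, hw0]
  have hwC : w ∈ Subgroup.centralizer ((P : Subgroup G) : Set G) := w0.2
  have hw1 : w ≠ 1 := by
    intro h
    rw [h, orderOf_one] at hwo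
    omega
  -- `w` fixes a second point
  have hW : IsPGroup 2 (Subgroup.zpowers w) := by
    apply IsPGroup.of_card (n := 1)
    rw [Nat.card_zpowers, hwo, pow_one]
  have hPfix : P ∈ MulAction.fixedPoints (Subgroup.zpowers w) (Sylow 11 G) := by
    rw [Subgroup.sylow_mem_fixedPoints_iff, Subgroup.zpowers_le]
    exact Subgroup.centralizer_le_normalizer _ hwC
  obtain ⟨Q0, hQ0, hPQ0⟩ := hW.exists_fixed_point_of_prime_dvd_card_of_fixed_point
    (α := Sylow 11 G) (by rw [h12]; norm_num) hPfix
  have hwQ0 : w • Q0 = Q0 := hQ0 ⟨w, Subgroup.mem_zpowers w⟩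
  -- the orbit of `Q0` under `P`
  have horb : (MulAction.orbit (P : Subgroup G) Q0).ncard = 11 := by
    have h1 := MulAction.index_stabilizer (P : Subgroup G) Q0
    have h2 := Subgroup.index_dvd_card (MulAction.stabilizer (P : Subgroup G) Q0)
    rw [h1] at h2
    have h2' : (MulAction.orbit (P : Subgroup G) Q0).ncard ∣ 11 := by
      have : Nat.card (P : Subgroup G) = 11 := hP
      rwa [this] at h2
    rcases (Nat.dvd_prime (by norm_num)).1 h2' with h | h
    · exfalso
      have hs : (MulAction.orbit (P : Subgroup G) Q0).Subsingleton := by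
        rw [← Set.ncard_le_one_iff_subsingleton, h]
      rw [MulAction.subsingleton_orbit_iff_mem_fixedPoints, P.2.sylow_mem_fixedPoints_iff] at hs
      exact hPQ0 (Sylow.ext (P.3 Q0.2 hs)).symm
    · exact h
  have hPn : P ∉ MulAction.orbit (P : Subgroup G) Q0 := by
    rintro ⟨z, hz⟩
    have hz' : (z : G) • Q0 = P := hz
    have h1 : (z : G)⁻¹ • P = P := by
      rw [Sylow.smul_eq_iff_mem_normalizer]
      exact Subgroup.le_normalizer (inv_mem z.2)
    apply hPQ0
    have h2 : (z : G)⁻¹ • P = Q0 := by
      rw [inv_smul_eq_iff]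
      exact hz'.symm
    exact h1.symm.trans h2
  have huniv : insert P (MulAction.orbit (P : Subgroup G) Q0) = Set.univ := by
    apply Set.eq_of_subset_of_ncard_le (Set.subset_univ _) _ (Set.toFinite _)
    rw [Set.ncard_insert_of_notMem hPn (Set.toFinite _), horb, Set.ncard_univ, h12]
  have hall : ∀ Q : Sylow 11 G, w • Q = Q := by
    intro Q
    have hQ : Q ∈ insert P (MulAction.orbit (P : Subgroup G) Q0) := by
      rw [huniv]; trivial
    rcases hQ with rfl | ⟨z, rfl⟩
    · exact hPfix ⟨w, Subgroup.mem_zpowers w⟩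
    · change w • ((z : G) • Q0) = (z : G) • Q0
      have hcomm : w * (z : G) = (z : G) * w := by
        have := (Subgroup.mem_centralizer_iff.1 hwC) (z : G) z.2
        exact this.symm
      rw [smul_smul, hcomm, ← smul_smul, hwQ0]
  refine ⟨(MulAction.toPermHom G (Sylow 11 G)).ker, inferInstance, ?_, ?_⟩
  · intro h
    have hwk : w ∈ (MulAction.toPermHom G (Sylow 11 G)).ker := by
      rw [MonoidHom.mem_ker]
      ext1 Q
      exact hall Q
    rw [h, Subgroup.mem_bot] at hwk
    exact hw1 hwk
  · intro h11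
    obtain ⟨x, hx⟩ := exists_prime_orderOf_dvd_card' 11 h11
    have hx' : orderOf (x : G) = 11 := by rw [Subgroup.orderOf_coe, hx]
    have hz : IsPGroup 11 (Subgroup.zpowers (x : G)) := by
      apply IsPGroup.of_card (n := 1)
      rw [Nat.card_zpowers, hx', pow_one]
    have hfix : ∀ Q : Sylow 11 G, (x : G) • Q = Q := by
      intro Q
      have h1 := x.2
      rw [MonoidHom.mem_ker] at h1
      have h2 := congrArg (fun f => f Q) h1
      exact h2
    have hle : ∀ Q : Sylow 11 G, Subgroup.zpowers (x : G) = (Q : Subgroup G) := by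
      intro Q
      have h1 : Q ∈ MulAction.fixedPoints (Subgroup.zpowers (x : G)) (Sylow 11 G) := by
        rw [Subgroup.sylow_mem_fixedPoints_iff, Subgroup.zpowers_le,
          ← Sylow.smul_eq_iff_mem_normalizer]
        exact hfix Q
      rw [hz.sylow_mem_fixedPoints_iff] at h1
      apply Subgroup.eq_of_le_of_card_ge h1
      rw [Nat.card_zpowers, hx']
      exact (syle_card_sylow11 hG Q).le
    exact hPQ0 (Sylow.ext ((hle P).symm.trans (hle Q0)))

end Cfsg.Agent.Lib.Helper58.PG
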