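import Mathlib
import Cfsg.Agent.S0200

set_option autoImplicit false

namespace Cfsg.Agent.Lib.Helper58

universe u

/-- Two subgroups of `K` of order the full `p`-part of `#K` are conjugate by an element of `K`. -/
theorem exists_conj_of_card {G : Type*} [Group G] [Finite G] {p : ℕ} [Fact p.Prime] (K A B : Subgroup G)
    (hA : A ≤ K) (hB : B ≤ K) (hcA : Nat.card A = p ^ (Nat.card K).factorization p)
    (hcB : Nat.card B = p ^ (Nat.card K).factorization p) :
    ∃ u ∈ K, ∀ a ∈ A, u * a * u⁻¹ ∈ B := by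
  have hcA' : Nat.card (A.subgroupOf K) = p ^ (Nat.card K).factorization p := by
    rw [← hcA]; exact Nat.card_congr (Subgroup.subgroupOfEquivOfLe hA).toEquiv
  have hcB' : Nat.card (B.subgroupOf K) = p ^ (Nat.card K).factorization p := by
    rw [← hcB]; exact Nat.card_congr (Subgroup.subgroupOfEquivOfLe hB).toEquiv
  obtain ⟨u, hu⟩ := MulAction.exists_smul_eq K (Sylow.ofCard _ hcA') (Sylow.ofCard _ hcB')
  refine ⟨u, u.2, fun a ha => ?_⟩
  have h1 : u * ⟨a, hA ha⟩ * u⁻¹ ∈ ((u • Sylow.ofCard _ hcA' : Sylow p K) : Subgroup K) := by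
    rw [Sylow.coe_subgroup_smul]; exact ⟨⟨a, hA ha⟩, ha, rfl⟩
  rw [hu] at h1
  exact h1

/-- A nontrivial real element of odd order in `G ⧸ N`, `N` a normal 2-subgroup, gives one in `G`. -/
theorem exists_real_of_quotient {G : Type*} [Group G] [Finite G] (N : Subgroup G) [N.Normal]
    (hN : IsPGroup 2 N) (xb : G ⧸ N) (hxb1 : xb ≠ 1) (hxbo : Odd (orderOf xb))
    (hreal : IsConj xb xb⁻¹) :
    ∃ x : G, x ≠ 1 ∧ Odd (orderOf x) ∧ IsConj x x⁻¹ := by
  obtain ⟨gb, hgb⟩ := isConj_iff.mp hreal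
  have hm1 : orderOf xb ≠ 1 := by rwa [Ne, orderOf_eq_one_iff]
  obtain ⟨r, hr, hrd⟩ := Nat.exists_prime_and_dvd hm1
  have hrodd : Odd r := hxbo.of_dvd_nat hrd
  have := Fact.mk hr
  have hx1o : orderOf (xb ^ (orderOf xb / r)) = r :=
    orderOf_pow_orderOf_div (orderOf_pos xb).ne' hrd
  have hx1c : gb * xb ^ (orderOf xb / r) * gb⁻¹ = (xb ^ (orderOf xb / r))⁻¹ := by
    rw [← conj_pow, hgb, inv_pow]
  generalize xb ^ (orderOf xb / r) = x1 at hx1o hx1c
  obtain ⟨y, hy⟩ := QuotientGroup.mk_surjective x1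
  obtain ⟨g, hg⟩ := QuotientGroup.mk_surjective gb
  obtain ⟨a, ha⟩ := hN.exists_card_eq
  have hNpow : ∀ z ∈ N, z ^ (2 ^ a) = 1 := by
    intro z hz
    have h := pow_card_eq_one' (G := N) (x := ⟨z, hz⟩)
    rw [ha] at h
    exact congrArg Subtype.val h
  have hcop : Nat.Coprime r (2 ^ a) := by
    apply Nat.Coprime.pow_right
    exact (Nat.coprime_two_right.mpr hrodd)
  have hyr : y ^ r ∈ N := by
    rw [← QuotientGroup.eq_one_iff, QuotientGroup.mk_pow, hy, ← hx1o, pow_orderOf_eq_one]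
  have hxr : (y ^ (2 ^ a)) ^ r = 1 := by
    rw [← pow_mul, mul_comm, pow_mul]; exact hNpow _ hyr
  have hπx : ((y ^ (2 ^ a) : G) : G ⧸ N) = x1 ^ (2 ^ a) := by rw [QuotientGroup.mk_pow, hy]
  have hπx1 : x1 ^ (2 ^ a) ≠ 1 := by
    intro h
    have h1 := orderOf_dvd_of_pow_eq_one h
    rw [hx1o] at h1
    have h2 : r ∣ 1 := by
      have := Nat.dvd_gcd (dvd_refl r) h1
      rwa [hcop.gcd_eq_one] at this
    exact hr.one_lt.ne' (Nat.dvd_one.mp h2)
  have hπc : gb * x1 ^ (2 ^ a) * gb⁻¹ = (x1 ^ (2 ^ a))⁻¹ := by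
    rw [← conj_pow, hx1c, inv_pow]
  generalize y ^ (2 ^ a) = x at hxr hπx
  generalize x1 ^ (2 ^ a) = x2 at hπx hπx1 hπc
  have hx1 : x ≠ 1 := by
    rintro rfl
    exact hπx1 (by rw [← hπx]; rfl)
  have hxo : orderOf x = r := orderOf_eq_prime hxr hx1
  have hordconj : orderOf (g * x * g⁻¹) = r := by
    rw [← hxo]
    exact orderOf_injective (MulAut.conj g).toMonoidHom (MulAut.conj g).injective x
  have hπcx : ((g * x * g⁻¹ : G) : G ⧸ N) = x2⁻¹ := by
    rw [QuotientGroup.mk_mul, QuotientGroup.mk_mul, QuotientGroup.mk_inv, hg, hπx, hπc]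
  have hcK : g * x * g⁻¹ ∈ N ⊔ Subgroup.zpowers x := by
    have h1 : g * x * g⁻¹ * x ∈ N := by
      rw [← QuotientGroup.eq_one_iff, QuotientGroup.mk_mul, hπcx, hπx, inv_mul_cancel]
    have h2 : g * x * g⁻¹ = (g * x * g⁻¹ * x) * x⁻¹ := by group
    rw [h2]
    exact Subgroup.mul_mem _ (Subgroup.mem_sup_left h1)
      (Subgroup.mem_sup_right (Subgroup.inv_mem _ (Subgroup.mem_zpowers x)))
  have hdisj : ∀ z ∈ N, z ^ r = 1 → z = 1 := by
    intro z hz hzr
    have h := pow_gcd_eq_one.mpr ⟨hzr, hNpow z hz⟩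
    rwa [hcop.gcd_eq_one, pow_one] at h
  have hcardK : Nat.card (N ⊔ Subgroup.zpowers x : Subgroup G) = 2 ^ a * r := by
    have h1 := Subgroup.relIndex_mul_relIndex ⊥ N (N ⊔ Subgroup.zpowers x) bot_le le_sup_left
    rw [Subgroup.relIndex_bot_left, Subgroup.relIndex_bot_left, Subgroup.relIndex_sup_left, ha] at h1
    have h2 : N.relIndex (Subgroup.zpowers x) = r := by
      have h3 := Subgroup.relIndex_mul_relIndex ⊥ (N ⊓ Subgroup.zpowers x) (Subgroup.zpowers x)
        bot_le inf_le_right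
      rw [Subgroup.relIndex_bot_left, Subgroup.relIndex_bot_left, Subgroup.inf_relIndex_right,
        Nat.card_zpowers, hxo] at h3
      have h4 : N ⊓ Subgroup.zpowers x = ⊥ := by
        rw [eq_bot_iff]
        rintro z ⟨hzN, hzx⟩
        rw [Subgroup.mem_bot]
        apply hdisj z hzN
        obtain ⟨k, rfl⟩ := hzx
        show (x ^ k) ^ r = 1
        rw [← zpow_natCast, ← zpow_mul, mul_comm, zpow_mul, zpow_natCast, hxr, one_zpow]
      rw [h4, Subgroup.card_bot, one_mul] at h3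
      exact h3
    rw [h2] at h1
    exact h1.symm
  have hfac : (Nat.card (N ⊔ Subgroup.zpowers x : Subgroup G)).factorization r = 1 := by
    rw [hcardK, Nat.factorization_mul (by positivity) hr.ne_zero, Finsupp.add_apply,
      hr.factorization_self, Nat.factorization_eq_zero_of_not_dvd, zero_add]
    intro h
    have h2 : r ∣ 1 := by
      have := Nat.dvd_gcd (dvd_refl r) h
      rwa [hcop.gcd_eq_one] at this
    exact hr.one_lt.ne' (Nat.dvd_one.mp h2)
  obtain ⟨u, huK, hu⟩ := exists_conj_of_card (p := r) (N ⊔ Subgroup.zpowers x)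
    (Subgroup.zpowers (g * x * g⁻¹)) (Subgroup.zpowers x)
    (by rw [Subgroup.zpowers_le]; exact hcK) le_sup_right
    (by rw [Nat.card_zpowers, hordconj, hfac, pow_one])
    (by rw [Nat.card_zpowers, hxo, hfac, pow_one])
  obtain ⟨j, hj⟩ := hu _ (Subgroup.mem_zpowers _)
  have hj' : x ^ j = u * (g * x * g⁻¹) * u⁻¹ := hj
  have hcomm : ∀ v ∈ N ⊔ Subgroup.zpowers x, Commute ((v : G) : G ⧸ N) x2 := by
    have hle : N ⊔ Subgroup.zpowers x ≤
        (Subgroup.centralizer ({x2} : Set (G ⧸ N))).comap (QuotientGroup.mk' N) := by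
      apply sup_le
      · intro v hv
        rw [Subgroup.mem_comap, Subgroup.mem_centralizer_singleton_iff]
        have : (QuotientGroup.mk' N) v = 1 := (QuotientGroup.eq_one_iff v).mpr hv
        rw [this, one_mul, mul_one]
      · rw [Subgroup.zpowers_le, Subgroup.mem_comap, Subgroup.mem_centralizer_singleton_iff]
        have : (QuotientGroup.mk' N) x = x2 := hπx
        rw [this]
    intro v hv
    have := hle hv
    rw [Subgroup.mem_comap, Subgroup.mem_centralizer_singleton_iff] at this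
    exact this
  have hz : x ^ j * x ∈ N := by
    rw [← QuotientGroup.eq_one_iff, hj', QuotientGroup.mk_mul, QuotientGroup.mk_mul,
      QuotientGroup.mk_mul, QuotientGroup.mk_inv, hπcx, hπx]
    have hc := (hcomm u huK).inv_right
    rw [hc.eq]
    group
  have hz1 : x ^ j * x = 1 := by
    apply hdisj _ hz
    have : x ^ j * x = x ^ (j + 1) := by rw [zpow_add_one]
    rw [this, ← zpow_natCast, ← zpow_mul, mul_comm, zpow_mul, zpow_natCast, hxr, one_zpow]
  refine ⟨x, hx1, by rw [hxo]; exact hrodd, isConj_iff.mpr ⟨u * g, ?_⟩⟩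
  have h3 : x ^ j = x⁻¹ := eq_inv_of_mul_eq_one_left hz1
  rw [← h3, hj']
  group

/-- A normal `p`-subgroup lies in every Sylow `p`-subgroup. -/
theorem normal_pgroup_le_sylow {G : Type*} [Group G] [Finite G] {p : ℕ} [Fact p.Prime]
    (N : Subgroup G) [hNn : N.Normal] (hN : IsPGroup p N) (P : Sylow p G) : N ≤ P := by
  obtain ⟨Q, hQ⟩ := hN.exists_le_sylow
  obtain ⟨g, hg⟩ := MulAction.exists_smul_eq G Q P
  intro n hn
  have h1 : g⁻¹ * n * g⁻¹⁻¹ ∈ N := hNn.conj_mem n hn g⁻¹
  have h2 : g * (g⁻¹ * n * g⁻¹⁻¹) * g⁻¹ ∈ ((g • Q : Sylow p G) : Subgroup G) := by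
    rw [Sylow.coe_subgroup_smul]; exact ⟨_, hQ h1, rfl⟩
  rw [hg] at h2
  simpa [mul_assoc] using h2

theorem sylow_two_normal_aux : ∀ (n : ℕ) (G : Type u) [Group G] [Finite G], Nat.card G = n →
    (∀ x : G, x ≠ 1 → Odd (orderOf x) → ¬ IsConj x x⁻¹) →
    ∀ P : Sylow 2 G, (P : Subgroup G).Normal := by
  intro n
  induction n using Nat.strong_induction_on with
  | _ n ih =>
    intro G _ _ hn hG P
    by_cases hev : 2 ∣ Nat.card G
    · obtain ⟨t, ht⟩ := exists_prime_orderOf_dvd_card' 2 hev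
      have hex : ∃ N : Subgroup G, N.Normal ∧ IsPGroup 2 N ∧ t ∈ N := by
        by_contra hcon
        push Not at hcon
        obtain ⟨h, h1, h2, h3⟩ := Cfsg.Agent.S0200.result t ht (fun N hN hp => hcon N hN hp)
        exact hG h h1 h2 (isConj_iff.mpr ⟨t, h3⟩)
      obtain ⟨N, hNn, hNp, htN⟩ := hex
      have hNcard : 1 < Nat.card N := by
        rw [Finite.one_lt_card_iff_nontrivial]
        refine ⟨⟨⟨t, htN⟩, 1, ?_⟩⟩
        intro h
        have h1 : t = 1 := congrArg Subtype.val h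
        rw [h1, orderOf_one] at ht
        omega
      have hlt : Nat.card (G ⧸ N) < n := by
        have h1 := Subgroup.card_eq_card_quotient_mul_card_subgroup N
        rw [hn] at h1
        have h2 : 0 < Nat.card (G ⧸ N) := Nat.card_pos
        nlinarith
      have hq := ih _ hlt (G ⧸ N) rfl (fun xb h1 h2 h3 => by
        obtain ⟨x, hx1, hx2, hx3⟩ := exists_real_of_quotient N hNp xb h1 h2 h3
        exact hG x hx1 hx2 hx3) (P.mapSurjective (QuotientGroup.mk'_surjective N))
      rw [Sylow.coe_mapSurjective] at hq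
      have h1 := hq.comap (QuotientGroup.mk' N)
      rw [Subgroup.comap_map_eq, QuotientGroup.ker_mk', sup_eq_left.mpr
        (normal_pgroup_le_sylow N hNp P)] at h1
      exact h1
    · have hP : (P : Subgroup G) = ⊥ := by
        rw [← Subgroup.card_eq_one]
        rcases P.2.card_eq_or_dvd with h | h
        · exact h
        · exact absurd (h.trans (Subgroup.card_subgroup_dvd_card _)) hev
      rw [hP]
      infer_instance

/-- If no nontrivial element of odd order is conjugate to its inverse, the Sylow 2-subgroup is normal. -/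
theorem sylow_two_normal_of_no_real {G : Type u} [Group G] [Finite G]
    (hG : ∀ x : G, x ≠ 1 → Odd (orderOf x) → ¬ IsConj x x⁻¹) (P : Sylow 2 G) :
    (P : Subgroup G).Normal :=
  sylow_two_normal_aux _ G rfl hG P

end Cfsg.Agent.Lib.Helper58
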