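import Mathlib
import Cfsg.Prelude.Def_TwoFusion
import Cfsg.Agent.Lib.Helper25.Isolated

set_option autoImplicit false

namespace Cfsg.Agent.Lib.Helper58

open Cfsg.Agent.Lib.Helper25

variable {G : Type*} [Group G]

/-- Two involutions whose product has odd order are conjugate. -/
theorem conj_of_odd_mul {u v : G} (hu : u * u = 1) (hv : v * v = 1) (h : Odd (orderOf (u * v))) :
    ∃ c : G, c * u * c⁻¹ = v := by
  obtain ⟨j, hj⟩ := h
  set a := u * v with ha
  have hinv : u * a * u = a⁻¹ := invol_inverts hu hv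
  refine ⟨a ^ j, ?_⟩
  have h1 := inv_pow_comm hinv hu j
  rw [← h1]
  have e1 : a ^ j * u * (u * a ^ j * u) = a ^ j * (u * u) * a ^ j * u := by group
  rw [e1, hu, mul_one, ← pow_add]
  have e2 : a ^ (j + j) * a = 1 := by
    rw [← pow_succ, ← two_mul, ← hj, pow_orderOf_eq_one]
  have e3 : a ^ (j + j) = a⁻¹ := eq_inv_of_mul_eq_one_left e2
  rw [e3, ← hinv, mul_assoc, hu, mul_one, ha, ← mul_assoc, hu, one_mul]

/-- The central involution of the dihedral group generated by two involutions whose product has even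
order `2 * m`. -/
theorem dihedral_central {u v : G} (hu : u * u = 1) (hv : v * v = 1) {m : ℕ}
    (h : orderOf (u * v) = 2 * m) (hm : 0 < m) :
    orderOf ((u * v) ^ m) = 2 ∧ Commute ((u * v) ^ m) u ∧ Commute ((u * v) ^ m) v := by
  set a := u * v with ha
  have hinv : u * a * u = a⁻¹ := invol_inverts hu hv
  have hww : a ^ m * a ^ m = 1 := by rw [← pow_add, ← two_mul, ← h, pow_orderOf_eq_one]
  have hw1 : a ^ m ≠ 1 := pow_ne_one_of_lt_orderOf (by omega) (by omega)
  have h1 : orderOf (a ^ m) = 2 := orderOf_eq_prime (by rw [pow_two]; exact hww) hw1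
  have h2 : u * a ^ m * u = a ^ m := by
    rw [inv_pow_comm hinv hu m]; exact inv_eq_of_mul_eq_one_left hww
  have h3 : Commute (a ^ m) u := by
    show a ^ m * u = u * a ^ m
    calc a ^ m * u = (u * a ^ m * u) * u := by rw [h2]
      _ = u * a ^ m * (u * u) := by group
      _ = u * a ^ m := by rw [hu, mul_one]
  have hva : v = u * a := by rw [ha, ← mul_assoc, hu, one_mul]
  refine ⟨h1, h3, ?_⟩
  rw [hva]
  exact h3.mul_right ((Commute.refl a).pow_left m)

/-- If the product of the involutions `u`, `v` has order `2 * m` with `m` odd, then `u v = w y` with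
`w = (uv)^m`, `y` a power of `(uv)^2`, and `u w` is conjugate to `v`. -/
theorem dihedral_twice_odd {u v : G} (hu : u * u = 1) (hv : v * v = 1) {m : ℕ}
    (h : orderOf (u * v) = 2 * m) (hm : Odd m) :
    (∃ i : ℕ, u * v = (u * v) ^ m * ((u * v) ^ 2) ^ i) ∧ ∃ c : G, c * v * c⁻¹ = u * (u * v) ^ m := by
  obtain ⟨k, hk⟩ := hm
  set a := u * v with ha
  have hinv : u * a * u = a⁻¹ := invol_inverts hu hv
  constructor
  · refine ⟨k + 1, ?_⟩
    rw [← pow_mul, ← pow_add]
    have : m + 2 * (k + 1) = 2 * m + 1 := by omega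
    rw [this, pow_succ, ← h, pow_orderOf_eq_one, one_mul]
  · refine ⟨(a ^ k)⁻¹, ?_⟩
    have hva : v = u * a := by rw [ha, ← mul_assoc, hu, one_mul]
    have h1 := inv_pow_comm hinv hu k
    rw [inv_inv, ← h1, hva]
    have e1 : u * a ^ k * u * (u * a) * a ^ k = u * a ^ k * (u * u) * a * a ^ k := by group
    rw [e1, hu, mul_one, hk, mul_assoc, mul_assoc, ← pow_succ', ← pow_add]
    congr 2
    omega

/-- Isolated involutions stay isolated in subgroups containing them. -/
theorem isolated_subgroup {z : G} (hz : Cfsg.IsIsolatedInvolution z) (H : Subgroup G) (hzH : z ∈ H) :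
    Cfsg.IsIsolatedInvolution (⟨z, hzH⟩ : H) := by
  refine ⟨by rw [Subgroup.orderOf_mk]; exact hz.1, ?_⟩
  intro g hg
  apply Subtype.ext
  apply hz.2 (g : G)
  exact congrArg Subtype.val hg.eq

/-- An involution commuting with the isolated involution `z` and different from it is not conjugate to `z`. -/
theorem not_conj_of_commute {z t : G} (hz : Cfsg.IsIsolatedInvolution z) (ht : Commute t z) (hne : t ≠ z)
    (s g : G) : s * t * s⁻¹ ≠ g * z * g⁻¹ := by
  intro h
  apply hne
  have h1 : t = (s⁻¹ * g) * z * (s⁻¹ * g)⁻¹ := by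
    calc t = s⁻¹ * (s * t * s⁻¹) * s := by group
      _ = s⁻¹ * (g * z * g⁻¹) * s := by rw [h]
      _ = (s⁻¹ * g) * z * (s⁻¹ * g)⁻¹ := by group
  rw [h1]
  apply hz.2
  rw [← h1]
  exact ht.symm

end Cfsg.Agent.Lib.Helper58
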